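import Mathlib
import Cfsg.Prelude.Def_ClassicalGeometry
import Cfsg.Agent.Lib.Forms.Witt
import Cfsg.Agent.Lib.Classical.Quad.Basic

/-!
Generation of orthogonal groups by reflections (any field; the only possible exception is dimension 4
over the field with two elements), the Dickson invariant `parity of rank (g - 1)`, and the index of
`Ω` in characteristic two.
-/

set_option autoImplicit false

namespace CfsgLib.Orth

open QuadraticMap Module CfsgLib.Classical.Quad

variable {F V : Type*} [Field F] [AddCommGroup V] [Module F V] {Q : QuadraticForm F V}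

theorem ndPolar_iff : NDPolar Q ↔ (polarBilin Q).Nondegenerate := by
  constructor
  · intro h
    exact ⟨fun x hx => h x hx, fun y hy => h y fun z => by rw [polar_comm]; exact hy z⟩
  · intro h x hx
    exact h.1 x hx

theorem finrank_polar_orthogonal [FiniteDimensional F V] (hnd : NDPolar Q) (W : Submodule F V) :
    finrank F (LinearMap.BilinForm.orthogonal (polarBilin Q) W) = finrank F V - finrank F W :=
  LinearMap.BilinForm.finrank_orthogonal (ndPolar_iff.mp hnd) W

/-! ### Generation by reflections -/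

/-- The reflections in non-singular vectors. -/
def reflSet (Q : QuadraticForm F V) : Set (Orth Q) := {g | ∃ v, Q v ≠ 0 ∧ g = refl Q v}

theorem siegel_mem_closure_refl [FiniteDimensional F V] (hnd : NDPolar Q)
    (h : (∃ t : F, t ≠ 0 ∧ t ≠ 1) ∨ finrank F V ≠ 4 ∨
      ∀ W : Submodule F V, finrank F W = 2 → ∃ x ∈ W, Q x ≠ 0) {u w : V} (hu : Q u = 0)
    (hw : polar Q u w = 0) : siegel Q u w hu hw ∈ Subgroup.closure (reflSet Q) := by
  -- Siegel transformations with a non-singular parameter
  have hns : ∀ {w : V} (hw : polar Q u w = 0), Q w ≠ 0 →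
      siegel Q u w hu hw ∈ Subgroup.closure (reflSet Q) := by
    intro w hw hQw
    rw [siegel_eq_refl_mul hu hw hQw]
    refine mul_mem (Subgroup.subset_closure ⟨_, ?_, rfl⟩) (Subgroup.subset_closure ⟨w, hQw, rfl⟩)
    rw [Q_comb1, hu, polar_comm Q w u, hw]
    simpa using hQw
  by_cases hQw : Q w = 0
  swap
  · exact hns hw hQw
  -- it is enough to split `w` into two non-singular parameters
  have split : ∀ w₁ : V, polar Q u w₁ = 0 → Q w₁ ≠ 0 → Q (w - w₁) ≠ 0 →
      siegel Q u w hu hw ∈ Subgroup.closure (reflSet Q) := by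
    intro w₁ h1 h2 h3
    have h4 : polar Q u (w - w₁) = 0 := by rw [polar_sub_right, hw, h1, sub_self]
    have h5 : siegel Q u w hu hw = siegel Q u w₁ hu h1 * siegel Q u (w - w₁) hu h4 := by
      rw [siegel_mul]
      exact siegel_congr _ _ _ _ rfl (by abel)
    rw [h5]
    exact mul_mem (hns h1 h2) (hns h4 h3)
  by_cases hu00 : u = 0
  · subst hu00
    have h0 : siegel Q 0 w hu hw = 1 := orth_ext fun x => by simp [siegel_apply]
    rw [h0]
    exact one_mem _
  by_cases hspan : w ∈ F ∙ u
  · obtain ⟨c, rfl⟩ := Submodule.mem_span_singleton.mp hspan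
    have h0 : siegel Q u (c • u) hu hw = 1 := by
      refine orth_ext fun x => ?_
      simp only [siegel_apply, polar_smul_right, QuadraticMap.map_smul, hu, smul_eq_mul, mul_zero,
        one_apply]
      module
    rw [h0]
    exact one_mem _
  have hu0 : polar Q u u = 0 := polar_singular_self hu
  have hw0 : polar Q w w = 0 := polar_singular_self hQw
  by_cases hF : ∃ t : F, t ≠ 0 ∧ t ≠ 1
  · obtain ⟨φ, hφ, hφw⟩ := CfsgLib.Forms.exists_dual_eq (F ∙ u) hspan (1 : F)
    obtain ⟨x, hx⟩ := exists_polar hnd φ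
    have hxu : polar Q u x = 0 := by
      rw [polar_comm, hx]; exact hφ u (Submodule.mem_span_singleton_self u)
    have hxw : polar Q x w = 1 := by rw [hx, hφw]
    obtain ⟨x, hxu, hxw, hxQ⟩ : ∃ x, polar Q u x = 0 ∧ polar Q x w = 1 ∧ Q x ≠ 0 := by
      by_cases hQx : Q x = 0
      · refine ⟨x + (1 : F) • w, ?_, ?_, ?_⟩
        · simp [polar_add_right, hxu, hw]
        · simp [polar_add_left, hxw, hw0]
        · rw [one_smul, QuadraticMap.map_add (⇑Q), hQx, hQw, hxw]; simp
      · exact ⟨x, hxu, hxw, hQx⟩
    obtain ⟨t, ht0, ht1⟩ : ∃ t : F, t ≠ 0 ∧ t * Q x ≠ 1 := by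
      obtain ⟨t, ht0, ht1⟩ := hF
      exact ⟨t / Q x, div_ne_zero ht0 hxQ, by rwa [div_mul_cancel₀ _ hxQ]⟩
    refine split (t • x) ?_ ?_ ?_
    · simp [polar_smul_right, hxu]
    · simp [QuadraticMap.map_smul, ht0, hxQ]
    · have h1 : Q (w - t • x) = t * (t * Q x - 1) := by
        rw [sub_eq_add_neg, ← neg_smul, Q_comb1, hQw, polar_comm Q w x, hxw]
        ring
      rw [h1]
      exact mul_ne_zero ht0 (sub_ne_zero.mpr ht1)
  · have hdim := h.resolve_left hF
    set W := Submodule.span F ({u, w} : Set V) with hW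
    have hind : LinearIndependent F ![w, u] := by
      refine not_smul_eq_of_indep hu00 fun c hc => ?_
      exact hspan (hc ▸ Submodule.smul_mem _ c (Submodule.mem_span_singleton_self u))
    have hWdim : finrank F W = 2 := by
      have h1 : Set.range ![w, u] = {u, w} := by simp [Matrix.range_cons, Set.pair_comm]
      rw [hW, ← h1, finrank_span_eq_card hind]
      simp
    have hWiso : W ≤ LinearMap.BilinForm.orthogonal (polarBilin Q) W := by
      intro x hx y hy
      rw [hW, Submodule.mem_span_pair] at hx hy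
      obtain ⟨a, b, rfl⟩ := hx
      obtain ⟨c, d, rfl⟩ := hy
      show polar Q _ _ = 0
      simp [polar_add_left, polar_add_right, polar_smul_left, polar_smul_right,
        hu0, hw0, hw, polar_comm Q w u]
    have hperp := finrank_polar_orthogonal hnd W
    by_cases hsing : ∀ x ∈ LinearMap.BilinForm.orthogonal (polarBilin Q) W, Q x = 0
    · exfalso
      have h1 : LinearMap.BilinForm.orthogonal (polarBilin Q) W ≤
          LinearMap.BilinForm.orthogonal (polarBilin Q)
            (LinearMap.BilinForm.orthogonal (polarBilin Q) W) := by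
        intro x hx y hy
        show polar Q y x = 0
        rw [polar, hsing _ (add_mem hy hx), hsing _ hx, hsing _ hy, sub_zero, sub_zero]
      have h2 := Submodule.finrank_mono h1
      have h5 := finrank_polar_orthogonal hnd (LinearMap.BilinForm.orthogonal (polarBilin Q) W)
      have h3 := Submodule.finrank_mono hWiso
      rcases hdim with hdim | hdim
      · omega
      · obtain ⟨x, hx, hQx⟩ := hdim W hWdim
        exact hQx (hsing x (hWiso hx))
    · push Not at hsing
      obtain ⟨x, hx, hQx⟩ := hsing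
      have hxu : polar Q u x = 0 := hx u (Submodule.subset_span (by simp))
      have hxw : polar Q w x = 0 := hx w (Submodule.subset_span (by simp))
      refine split x hxu hQx ?_
      rw [sub_eq_add_neg, QuadraticMap.map_add (⇑Q), hQw, QuadraticMap.map_neg, polar_neg_right,
        hxw]
      simpa using hQx

/-- The orthogonal group is generated by reflections. -/
theorem closure_refl_of [FiniteDimensional F V] (hnd : NDPolar Q)
    (h : (∃ t : F, t ≠ 0 ∧ t ≠ 1) ∨ finrank F V ≠ 4 ∨
      ∀ W : Submodule F V, finrank F W = 2 → ∃ x ∈ W, Q x ≠ 0) : Subgroup.closure (reflSet Q) = ⊤ := by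
  rw [eq_top_iff, ← closure_refl_siegel hnd, Subgroup.closure_le]
  rintro g (⟨v, rfl⟩ | ⟨u, w, hu, hw, rfl⟩)
  · by_cases hv : Q v = 0
    · have : refl Q v = 1 := orth_ext fun x => by simp [refl_apply, hv]
      rw [this]
      exact one_mem _
    · exact Subgroup.subset_closure ⟨v, hv, rfl⟩
  · exact siegel_mem_closure_refl hnd h hu hw

/-- The orthogonal group is generated by reflections, except possibly for `dim 4` over `F₂`. -/
theorem closure_refl [FiniteDimensional F V] (hnd : NDPolar Q)
    (h : (∃ t : F, t ≠ 0 ∧ t ≠ 1) ∨ finrank F V ≠ 4) : Subgroup.closure (reflSet Q) = ⊤ :=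
  closure_refl_of hnd (h.imp_right Or.inl)

/-! ### The Dickson invariant -/

/-- `g - 1` as an endomorphism. -/
def subOne (g : Orth Q) : V →ₗ[F] V := (g.1 : V →ₗ[F] V) - LinearMap.id

@[simp] theorem subOne_apply (g : Orth Q) (x : V) : subOne g x = g.1 x - x := rfl

/-- `dim (g - 1)V`. -/
noncomputable def moved (g : Orth Q) : ℕ := finrank F (LinearMap.range (subOne g))

theorem polar_fix_subOne (g : Orth Q) {x : V} (hx : g.1 x = x) (y : V) :
    polar Q x (g.1 y - y) = 0 := by
  rw [polar_sub_right]
  nth_rewrite 1 [← hx]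
  rw [orth_polar, sub_self]

theorem moved_one : moved (1 : Orth Q) = 0 := by
  have : subOne (1 : Orth Q) = 0 := LinearMap.ext fun x => by simp
  rw [moved, this, LinearMap.range_zero, finrank_bot]

/-- Multiplying by a reflection changes `moved` by exactly one. -/
theorem moved_refl_mul [FiniteDimensional F V] (hnd : NDPolar Q) (g : Orth Q) {u : V}
    (hu : Q u ≠ 0) :
    moved (refl Q u * g) + 1 = moved g ∨ moved (refl Q u * g) = moved g + 1 := by
  have hu0 : u ≠ 0 := fun h => hu (by simp [h])
  set I := LinearMap.range (subOne g) with hI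
  set J := LinearMap.range (subOne (refl Q u * g)) with hJ
  have hsub : ∀ x, subOne (refl Q u * g) x = subOne g x + (-(polar Q (g.1 x) u / Q u)) • u :=
    fun x => by simp [subOne, refl_apply]; abel
  have hJI : J ≤ I ⊔ (F ∙ u) := by
    rintro _ ⟨x, rfl⟩
    rw [hsub]
    exact Submodule.add_mem _ (Submodule.mem_sup_left (LinearMap.mem_range_self _ x))
      (Submodule.mem_sup_right (Submodule.smul_mem _ _ (Submodule.mem_span_singleton_self u)))
  have hIJ : I ≤ J ⊔ (F ∙ u) := by
    rintro _ ⟨x, rfl⟩
    rw [← add_sub_cancel_right (subOne g x) ((-(polar Q (g.1 x) u / Q u)) • u), ← hsub]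
    exact Submodule.sub_mem _ (Submodule.mem_sup_left (LinearMap.mem_range_self _ x))
      (Submodule.mem_sup_right (Submodule.smul_mem _ _ (Submodule.mem_span_singleton_self u)))
  have hsup : ∀ (K : Submodule F V), finrank F ↥(K ⊔ (F ∙ u)) ≤ finrank F K + 1 := fun K => by
    have := Submodule.finrank_add_le_finrank_add_finrank K (F ∙ u)
    rwa [finrank_span_singleton hu0] at this
  have hrn : finrank F I + finrank F (LinearMap.ker (subOne g)) = finrank F V :=
    LinearMap.finrank_range_add_finrank_ker (subOne g)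
  have hrn' : finrank F J + finrank F (LinearMap.ker (subOne (refl Q u * g))) = finrank F V :=
    LinearMap.finrank_range_add_finrank_ker (subOne (refl Q u * g))
  have hmI : moved g = finrank F I := rfl
  have hmJ : moved (refl Q u * g) = finrank F J := rfl
  by_cases hmem : u ∈ I
  · left
    obtain ⟨a, ha⟩ := hmem
    have hga : g.1 a = a + u := by rw [← ha]; simp
    have hau : polar Q (g.1 a) u = Q u := by
      have h1 := orth_Q g a
      rw [hga, QuadraticMap.map_add (⇑Q)] at h1
      rw [hga, polar_add_left, polar_self']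
      linear_combination h1
    have hlt : LinearMap.ker (subOne g) < LinearMap.ker (subOne (refl Q u * g)) := by
      refine lt_of_le_not_ge (fun x hx => ?_) fun hle => ?_
      · rw [LinearMap.mem_ker] at hx ⊢
        have hx' : g.1 x = x := sub_eq_zero.mp hx
        rw [hsub, hx, hx', zero_add, ← ha, subOne_apply, polar_fix_subOne g hx']
        simp
      · have h1 : a ∈ LinearMap.ker (subOne (refl Q u * g)) := by
          rw [LinearMap.mem_ker, hsub, hau, div_self hu, ha]
          simp
        have h2 : g.1 a - a = 0 := LinearMap.mem_ker.mp (hle h1)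
        exact hu0 (by rw [← ha]; exact h2)
    have h1 := Submodule.finrank_lt_finrank_of_lt hlt
    have h2 := (Submodule.finrank_mono hIJ).trans (hsup J)
    omega
  · right
    obtain ⟨y, hy, hyu⟩ : ∃ y ∈ LinearMap.ker (subOne g), polar Q y u ≠ 0 := by
      by_contra hcon
      push Not at hcon
      apply hmem
      have hle : I ≤ LinearMap.BilinForm.orthogonal (polarBilin Q) (LinearMap.ker (subOne g)) := by
        rintro _ ⟨x, rfl⟩ z hz
        exact polar_fix_subOne g (sub_eq_zero.mp hz) x
      have heq := Submodule.eq_of_le_of_finrank_le hle (by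
        rw [finrank_polar_orthogonal hnd]; omega)
      rw [heq]
      exact fun z hz => hcon z hz
    have hyfix : g.1 y = y := sub_eq_zero.mp hy
    have huJ : u ∈ J := by
      have h1 : subOne (refl Q u * g) y = (-(polar Q y u / Q u)) • u := by
        rw [hsub, LinearMap.mem_ker.mp hy, hyfix, zero_add]
      have h2 : -(polar Q y u / Q u) ≠ 0 := neg_ne_zero.mpr (div_ne_zero hyu hu)
      rw [← inv_smul_smul₀ h2 u, ← h1]
      exact J.smul_mem _ (LinearMap.mem_range_self _ y)
    have hlt : I < J := by
      refine lt_of_le_not_ge (hIJ.trans (sup_le le_rfl ?_)) fun hle => hmem (hle huJ)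
      rwa [Submodule.span_singleton_le_iff_mem]
    have h1 := Submodule.finrank_lt_finrank_of_lt hlt
    have h2 := (Submodule.finrank_mono hJI).trans (hsup I)
    omega

theorem moved_refl_mul_parity [FiniteDimensional F V] (hnd : NDPolar Q) (g : Orth Q) {u : V}
    (hu : Q u ≠ 0) : (moved (refl Q u * g) : ZMod 2) = moved g + 1 := by
  rcases moved_refl_mul hnd g hu with h | h
  · rw [← h]
    push_cast
    rw [add_assoc, CharTwo.add_self_eq_zero, add_zero]
  · rw [h]; push_cast; rfl

theorem moved_mul_parity [FiniteDimensional F V] (hnd : NDPolar Q)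
    (hgen : Subgroup.closure (reflSet Q) = ⊤) (g g' : Orth Q) :
    (moved (g * g') : ZMod 2) = moved g + moved g' := by
  have h := hgen.ge (Subgroup.mem_top g)
  induction h using Subgroup.closure_induction_left generalizing g' with
  | one => simp [moved_one]
  | mul_left x hx y _ ih =>
    obtain ⟨v, hv, rfl⟩ := hx
    rw [mul_assoc, moved_refl_mul_parity hnd _ hv, moved_refl_mul_parity hnd _ hv, ih]
    ring
  | inv_mul_cancel x hx y _ ih =>
    obtain ⟨v, hv, rfl⟩ := hx
    rw [refl_inv, mul_assoc, moved_refl_mul_parity hnd _ hv, moved_refl_mul_parity hnd _ hv, ih]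
    ring

/-- The Dickson invariant. -/
noncomputable def dickson [FiniteDimensional F V] (hnd : NDPolar Q)
    (hgen : Subgroup.closure (reflSet Q) = ⊤) : Orth Q →* Multiplicative (ZMod 2) where
  toFun g := Multiplicative.ofAdd (moved g : ZMod 2)
  map_one' := by simp [moved_one]
  map_mul' g g' := by rw [← ofAdd_add, moved_mul_parity hnd hgen]

theorem dickson_refl [FiniteDimensional F V] (hnd : NDPolar Q)
    (hgen : Subgroup.closure (reflSet Q) = ⊤) {v : V} (hv : Q v ≠ 0) :
    dickson hnd hgen (refl Q v) = Multiplicative.ofAdd (1 : ZMod 2) := by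
  have h := moved_refl_mul_parity hnd (1 : Orth Q) hv
  rw [mul_one, moved_one, Nat.cast_zero, zero_add] at h
  show Multiplicative.ofAdd (moved (refl Q v) : ZMod 2) = _
  rw [h]

/-! ### Characteristic two -/

/-- Witt: two vectors with the same non-zero value are conjugate. -/
theorem exists_map_of_Q_eq [FiniteDimensional F V] (hnd : NDPolar Q) {v w : V} (hv : Q v ≠ 0)
    (h : Q v = Q w) : ∃ g : Orth Q, g.1 v = w := by
  have hv0 : v ≠ 0 := fun h0 => hv (by simp [h0])
  have hw0 : w ≠ 0 := fun h0 => hv (by simp [h, h0])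
  obtain ⟨l, -, hlv⟩ := CfsgLib.Forms.exists_dual_eq (⊥ : Submodule F V) (x := v) (by simpa using hv0)
    (1 : F)
  obtain ⟨g, hg, hgX⟩ := CfsgLib.Forms.witt_quadratic Q (ndPolar_iff.mp hnd) (F ∙ v)
    (l.smulRight w) (fun x hx => by
      obtain ⟨c, rfl⟩ := Submodule.mem_span_singleton.mp hx
      simp [QuadraticMap.map_smul, hlv, h])
    (fun x hx hx0 => by
      obtain ⟨c, rfl⟩ := Submodule.mem_span_singleton.mp hx
      simpa [hlv, hw0, hv0] using hx0)
  refine ⟨⟨g, hg⟩, ?_⟩
  rw [hgX v (Submodule.mem_span_singleton_self v)]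
  simp [hlv]

theorem index_commutator_of_closure_refl [Finite F] [CharP F 2] [FiniteDimensional F V] (hnd : NDPolar Q)
    (hgen : Subgroup.closure (reflSet Q) = ⊤) (hQ : ∃ v, Q v ≠ 0) :
    (commutator (Orth Q)).index = 2 := by
  obtain ⟨v₀, hv₀⟩ := hQ
  obtain ⟨s, hs⟩ := FiniteField.isSquare_of_char_two (ringChar.eq F 2) (Q v₀)
  have hs0 : s ≠ 0 := fun h0 => hv₀ (by simpa [h0] using hs)
  set r : Abelianization (Orth Q) := Abelianization.of (refl Q v₀) with hr
  have hr2 : r * r = 1 := by rw [hr, ← map_mul, refl_mul_self, map_one]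
  have hconj : ∀ v, Q v ≠ 0 → Abelianization.of (refl Q v) = r := by
    intro v hv
    obtain ⟨t, ht⟩ := FiniteField.isSquare_of_char_two (ringChar.eq F 2) (Q v)
    have ht0 : t ≠ 0 := fun h0 => hv (by simpa [h0] using ht)
    have he : Q v₀ = Q ((s / t) • v) := by
      rw [QuadraticMap.map_smul, hs, ht, smul_eq_mul]; field_simp
    obtain ⟨g, hg⟩ := exists_map_of_Q_eq hnd hv₀ he
    have hv' : refl Q v = g * refl Q v₀ * g⁻¹ := by
      rw [refl_conj, hg, refl_smul (div_ne_zero hs0 ht0)]
    rw [hv', map_mul, map_mul, map_inv, mul_inv_cancel_comm]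
  have hzp : ∀ x : Abelianization (Orth Q), x = 1 ∨ x = r := by
    intro x
    obtain ⟨g, rfl⟩ := QuotientGroup.mk_surjective x
    have hg := hgen.ge (Subgroup.mem_top g)
    induction hg using Subgroup.closure_induction_left with
    | one => exact Or.inl rfl
    | mul_left a ha b _ ih =>
      obtain ⟨v, hv, rfl⟩ := ha
      change Abelianization.of (refl Q v * b) = 1 ∨ Abelianization.of (refl Q v * b) = r
      rw [map_mul, hconj v hv]
      rcases ih with h1 | h1 <;> [right; left] <;>
        (rw [show Abelianization.of b = _ from h1]; simp [hr2])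
    | inv_mul_cancel a ha b _ ih =>
      obtain ⟨v, hv, rfl⟩ := ha
      rw [refl_inv]
      change Abelianization.of (refl Q v * b) = 1 ∨ Abelianization.of (refl Q v * b) = r
      rw [map_mul, hconj v hv]
      rcases ih with h1 | h1 <;> [right; left] <;>
        (rw [show Abelianization.of b = _ from h1]; simp [hr2])
  have hne : r ≠ 1 := by
    intro h1
    have h2 := congrArg (Abelianization.lift (dickson hnd hgen)) h1
    rw [hr, Abelianization.lift_apply_of, dickson_refl hnd hgen hv₀, MonoidHom.map_one] at h2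
    exact absurd h2 (by decide)
  classical
  change Nat.card (Abelianization (Orth Q)) = 2
  rw [Nat.card_eq_two_iff]
  exact ⟨1, r, Ne.symm hne, Set.eq_univ_of_forall fun x => by simpa using hzp x⟩

theorem index_commutator_char_two [Finite F] [CharP F 2] [FiniteDimensional F V] (hnd : NDPolar Q)
    (h : (∃ t : F, t ≠ 0 ∧ t ≠ 1) ∨ finrank F V ≠ 4) (hQ : ∃ v, Q v ≠ 0) :
    (commutator (Orth Q)).index = 2 :=
  index_commutator_of_closure_refl hnd (closure_refl hnd h) hQ

/-- In characteristic two the commutator subgroup is the kernel of the Dickson invariant. -/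
theorem mem_commutator_iff [Finite F] [CharP F 2] [FiniteDimensional F V] (hnd : NDPolar Q)
    (hgen : Subgroup.closure (reflSet Q) = ⊤) (hQ : ∃ v, Q v ≠ 0) (g : Orth Q) :
    g ∈ commutator (Orth Q) ↔ Even (moved g) := by
  obtain ⟨v₀, hv₀⟩ := hQ
  have hle : commutator (Orth Q) ≤ (dickson hnd hgen).ker := Abelianization.commutator_subset_ker _
  have hne : (dickson hnd hgen).ker ≠ ⊤ := fun htop => by
    have h1 : dickson hnd hgen (refl Q v₀) = 1 := MonoidHom.mem_ker.mp (htop ▸ Subgroup.mem_top _)
    rw [dickson_refl hnd hgen hv₀] at h1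
    exact absurd h1 (by decide)
  have heq : commutator (Orth Q) = (dickson hnd hgen).ker := by
    refine le_antisymm hle ?_
    have h2 := index_commutator_of_closure_refl hnd hgen ⟨v₀, hv₀⟩
    have h3 := Subgroup.relIndex_mul_index hle
    rw [h2] at h3
    rcases (Nat.prime_two.eq_one_or_self_of_dvd _ ⟨_, h3.symm⟩) with h4 | h4
    · exact Subgroup.relIndex_eq_one.mp h4
    · exact absurd (Subgroup.index_eq_one.mp (by rw [h4] at h3; omega)) hne
  rw [heq, MonoidHom.mem_ker]
  show Multiplicative.ofAdd (moved g : ZMod 2) = 1 ↔ _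
  rw [ofAdd_eq_one, ZMod.natCast_eq_zero_iff_even]

/-! ### Coordinates: `Cfsg.reflectionMatrix` -/

section Coord

variable {ι : Type} [Fintype ι] [DecidableEq ι]

theorem polarVec_dotProduct (Q : QuadraticForm F (ι → F)) (v x : ι → F) :
    Cfsg.polarVec ⇑Q v ⬝ᵥ x = polar Q v x := by
  conv_rhs => rw [pi_eq_sum_univ' x, ← polarBilin_apply_apply, map_sum]
  exact Finset.sum_congr rfl fun j _ => by simp [Cfsg.polarVec, mul_comm]

theorem reflectionMatrix_mulVec (Q : QuadraticForm F (ι → F)) (v x : ι → F) :
    (Cfsg.reflectionMatrix ⇑Q v).mulVec x = (refl Q v).1 x := by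
  rw [Cfsg.reflectionMatrix, Matrix.sub_mulVec, Matrix.one_mulVec, Matrix.smul_mulVec,
    Matrix.vecMulVec_mulVec, polarVec_dotProduct, op_smul_eq_smul, smul_smul, refl_apply,
    polar_comm Q v x, neg_smul, sub_eq_add_neg]
  congr 3
  ring

theorem det_reflectionMatrix (Q : QuadraticForm F (ι → F)) {v : ι → F} (hv : Q v ≠ 0) :
    (Cfsg.reflectionMatrix ⇑Q v).det = -1 := by
  rw [Cfsg.reflectionMatrix, sub_eq_add_neg, ← neg_smul, ← Matrix.smul_vecMulVec,
    Matrix.vecMulVec_eq (ι := Unit), Matrix.det_one_add_replicateCol_mul_replicateRow,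
    dotProduct_smul, polarVec_dotProduct, polar_self', smul_eq_mul]
  field_simp
  ring

theorem isometryGroupEquiv_refl (Q : QuadraticForm F (ι → F))
    (g : Cfsg.isometryGroup F ⇑Q) (v : ι → F) :
    ((g.1 : Matrix ι ι F) = Cfsg.reflectionMatrix ⇑Q v) ↔
      isometryGroupEquiv Q (fun _ => rfl) g = refl Q v := by
  constructor
  · intro h
    exact orth_ext fun x => by rw [isometryGroupEquiv_apply, h, reflectionMatrix_mulVec]
  · intro h
    apply Matrix.ext_of_mulVec_single
    intro j
    rw [reflectionMatrix_mulVec, ← h, isometryGroupEquiv_apply]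

theorem closure_reflectionMatrix (Q : QuadraticForm F (ι → F)) (hnd : NDPolar Q)
    (h : (∃ t : F, t ≠ 0 ∧ t ≠ 1) ∨ Fintype.card ι ≠ 4) :
    Subgroup.closure {g : Cfsg.isometryGroup F ⇑Q | ∃ v : ι → F, Q v ≠ 0 ∧
      (g.1 : Matrix ι ι F) = Cfsg.reflectionMatrix ⇑Q v} = ⊤ := by
  apply Subgroup.map_injective (f := (isometryGroupEquiv Q fun _ => rfl).toMonoidHom)
    (MulEquiv.injective _)
  rw [MonoidHom.map_closure, Subgroup.map_top_of_surjective _ (MulEquiv.surjective _)]
  convert closure_refl hnd (by simpa using h) using 2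
  ext r
  constructor
  · rintro ⟨g, ⟨v, hv, hg⟩, rfl⟩
    exact ⟨v, hv, (isometryGroupEquiv_refl Q g v).mp hg⟩
  · rintro ⟨v, hv, rfl⟩
    refine ⟨(isometryGroupEquiv Q fun _ => rfl).symm (refl Q v), ⟨v, hv, ?_⟩, by simp⟩
    rw [isometryGroupEquiv_refl]
    simp

theorem exists_ne_zero_ne_one_of_card [Fintype F] (h : Fintype.card F ≠ 2) :
    ∃ t : F, t ≠ 0 ∧ t ≠ 1 := by
  classical
  by_contra! hcon
  apply h
  have : (Finset.univ : Finset F) = {0, 1} := by
    ext t
    simp only [Finset.mem_univ, Finset.mem_insert, Finset.mem_singleton, true_iff]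
    exact or_iff_not_imp_left.mpr (hcon t)
  rw [← Finset.card_univ, this]
  simp

theorem index_Omega_char_two [Finite F] [CharP F 2] (Q : QuadraticForm F (ι → F)) (hnd : NDPolar Q)
    (h : (∃ t : F, t ≠ 0 ∧ t ≠ 1) ∨ Fintype.card ι ≠ 4) (hQ : ∃ v, Q v ≠ 0) :
    (Cfsg.Omega F ⇑Q).index = 2 := by
  have hmap : (Cfsg.Omega F ⇑Q).map (isometryGroupEquiv Q fun _ => rfl).toMonoidHom
      = commutator (Orth Q) := by
    rw [Cfsg.Omega, commutator_def, commutator_def, Subgroup.map_commutator,
      Subgroup.map_top_of_surjective _ (MulEquiv.surjective _)]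
  have h2 := index_commutator_char_two hnd (by simpa using h) hQ
  rw [← hmap, Subgroup.index_map_of_bijective
    (f := (isometryGroupEquiv Q fun _ => rfl).toMonoidHom) (MulEquiv.bijective _)] at h2
  exact h2

end Coord

end CfsgLib.Orth
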