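import Mathlib
import Cfsg.Prelude.Def_Classical
import Cfsg.Prelude.Def_ClassicalGeometry

/-!
The spinor norm of an orthogonal group over a finite field of odd order, obtained as the sign of the
permutation induced on the vectors of one fixed norm, and its first consequences: the isometry
group is generated by reflections, `O/Ω` has order four, `Ω = ker det ⊓ ker θ`.
-/

set_option autoImplicit false
set_option linter.unusedSectionVars false
set_option linter.style.haveILetI false

namespace CfsgLib.OrthSpinor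

open Matrix Cfsg
open QuadraticMap (polar)

variable {ι : Type} [Fintype ι] [DecidableEq ι] {F : Type*} [Field F]
variable (Q : QuadraticForm F (ι → F))

/-! ### Basic matrix formulas -/

theorem polarVec_dot (v x : ι → F) : polarVec ⇑Q v ⬝ᵥ x = polar (⇑Q) v x := by
  conv_rhs => rw [pi_eq_sum_univ' x]
  rw [← QuadraticMap.polarBilin_apply_apply, map_sum]
  simp only [map_smul, smul_eq_mul, dotProduct, polarVec, QuadraticMap.polarBilin_apply_apply]
  exact Finset.sum_congr rfl fun i _ => mul_comm _ _

theorem reflectionMatrix_mulVec (v x : ι → F) :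
    reflectionMatrix ⇑Q v *ᵥ x = x - ((Q v)⁻¹ * polar (⇑Q) v x) • v := by
  rw [reflectionMatrix, sub_mulVec, one_mulVec, smul_mulVec, vecMulVec_mulVec, polarVec_dot]
  simp [smul_smul]

theorem siegelMatrix_mulVec (u v : ι → F) (c : F) (x : ι → F) :
    siegelMatrix ⇑Q u v c *ᵥ x =
      x + (c * polar (⇑Q) u x) • v - (c * polar (⇑Q) v x) • u := by
  rw [siegelMatrix, add_mulVec, one_mulVec, smul_mulVec, sub_mulVec, vecMulVec_mulVec,
    vecMulVec_mulVec, polarVec_dot, polarVec_dot]
  simp only [op_smul_eq_smul, smul_sub, smul_smul]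
  abel

theorem polar_comm' (x y : ι → F) : polar (⇑Q) x y = polar (⇑Q) y x :=
  QuadraticMap.polar_comm _ x y

theorem polar_self' (x : ι → F) : polar (⇑Q) x x = 2 * Q x := by
  rw [QuadraticMap.polar_self, two_nsmul, two_mul]

theorem map_add' (x y : ι → F) : Q (x + y) = Q x + Q y + polar (⇑Q) x y :=
  QuadraticMap.map_add _ x y

theorem map_smul' (a : F) (x : ι → F) : Q (a • x) = a * a * Q x := by
  rw [QuadraticMap.map_smul, smul_eq_mul]

theorem map_sub' (x y : ι → F) : Q (x - y) = Q x + Q y - polar (⇑Q) x y := by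
  rw [sub_eq_add_neg, map_add', QuadraticMap.map_neg, QuadraticMap.polar_neg_right, ← sub_eq_add_neg]

/-! ### Elements of the isometry group as maps -/

/-- The action of an isometry on a vector. -/
def act (g : ↥(isometryGroup F ⇑Q)) (x : ι → F) : ι → F :=
  (((g : GL ι F) : Matrix ι ι F)) *ᵥ x

@[simp] theorem act_one (x : ι → F) : act Q 1 x = x := by simp [act]

theorem act_mul (g h : ↥(isometryGroup F ⇑Q)) (x : ι → F) :
    act Q (g * h) x = act Q g (act Q h x) := by
  simp [act, mulVec_mulVec]

theorem act_add (g : ↥(isometryGroup F ⇑Q)) (x y : ι → F) :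
    act Q g (x + y) = act Q g x + act Q g y := by
  simp [act, mulVec_add]

theorem act_sub (g : ↥(isometryGroup F ⇑Q)) (x y : ι → F) :
    act Q g (x - y) = act Q g x - act Q g y := by
  simp [act, mulVec_sub]

theorem act_smul (g : ↥(isometryGroup F ⇑Q)) (a : F) (x : ι → F) :
    act Q g (a • x) = a • act Q g x := by
  simp [act, mulVec_smul]

theorem act_neg (g : ↥(isometryGroup F ⇑Q)) (x : ι → F) :
    act Q g (-x) = -act Q g x := by
  simp [act, mulVec_neg]

@[simp] theorem act_zero (g : ↥(isometryGroup F ⇑Q)) : act Q g 0 = 0 := by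
  simp [act]

theorem act_inv_act (g : ↥(isometryGroup F ⇑Q)) (x : ι → F) :
    act Q g⁻¹ (act Q g x) = x := by
  rw [← act_mul, inv_mul_cancel, act_one]

theorem act_act_inv (g : ↥(isometryGroup F ⇑Q)) (x : ι → F) :
    act Q g (act Q g⁻¹ x) = x := by
  rw [← act_mul, mul_inv_cancel, act_one]

theorem Q_act (g : ↥(isometryGroup F ⇑Q)) (x : ι → F) : Q (act Q g x) = Q x :=
  g.2 x x

theorem polar_act (g : ↥(isometryGroup F ⇑Q)) (x y : ι → F) :
    polar (⇑Q) (act Q g x) (act Q g y) = polar (⇑Q) x y := by
  simp only [polar, ← act_add, Q_act]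

theorem ext_act {g h : ↥(isometryGroup F ⇑Q)} (H : ∀ x, act Q g x = act Q h x) : g = h := by
  apply Subtype.ext
  apply Units.ext
  exact Matrix.toLin'.injective (LinearMap.ext fun x => H x)

theorem eq_of_matrix {g h : ↥(isometryGroup F ⇑Q)}
    (H : ((g : GL ι F) : Matrix ι ι F) = ((h : GL ι F) : Matrix ι ι F)) : g = h :=
  Subtype.ext (Units.ext H)

/-- The isometry given by a matrix which preserves the form and has an inverse. -/
def mkIsometry (M N : Matrix ι ι F) (h₁ : M * N = 1) (h₂ : N * M = 1)
    (h : ∀ x, Q (M *ᵥ x) = Q x) : ↥(isometryGroup F ⇑Q) :=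
  ⟨⟨M, N, h₁, h₂⟩, fun u _ => h u⟩

theorem act_mkIsometry (M N : Matrix ι ι F) (h₁ : M * N = 1) (h₂ : N * M = 1)
    (h : ∀ x, Q (M *ᵥ x) = Q x) (x : ι → F) :
    act Q (mkIsometry Q M N h₁ h₂ h) x = M *ᵥ x := rfl

/-! ### Siegel transformations -/

section Siegel

variable {Q}
variable {u v : ι → F} (hu : Q u = 0) (hv : Q v = 0) (huv : polar (⇑Q) u v = 0)

include hu hv huv in
theorem siegelMatrix_mul (c d : F) :
    siegelMatrix ⇑Q u v c * siegelMatrix ⇑Q u v d = siegelMatrix ⇑Q u v (c + d) := by
  apply Matrix.toLin'.injective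
  apply LinearMap.ext
  intro x
  simp only [Matrix.toLin'_apply, ← mulVec_mulVec, siegelMatrix_mulVec]
  have h1 : polar (⇑Q) u (x + (d * polar (⇑Q) u x) • v - (d * polar (⇑Q) v x) • u) =
      polar (⇑Q) u x := by
    rw [QuadraticMap.polar_sub_right, QuadraticMap.polar_add_right, QuadraticMap.polar_smul_right,
      QuadraticMap.polar_smul_right, huv, polar_self', hu]
    simp
  have h2 : polar (⇑Q) v (x + (d * polar (⇑Q) u x) • v - (d * polar (⇑Q) v x) • u) =
      polar (⇑Q) v x := by
    rw [QuadraticMap.polar_sub_right, QuadraticMap.polar_add_right, QuadraticMap.polar_smul_right,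
      QuadraticMap.polar_smul_right, polar_comm' Q v u, huv, polar_self', hv]
    simp
  rw [h1, h2]
  simp only [add_mul, add_smul]
  abel

theorem siegelMatrix_zero : siegelMatrix ⇑Q u v (0 : F) = 1 := by
  simp [siegelMatrix]

include hu hv huv in
theorem Q_siegelMatrix_mulVec (c : F) (x : ι → F) : Q (siegelMatrix ⇑Q u v c *ᵥ x) = Q x := by
  rw [siegelMatrix_mulVec, map_sub', map_add', map_smul', map_smul', hu, hv,
    QuadraticMap.polar_add_left, QuadraticMap.polar_smul_right, QuadraticMap.polar_smul_right,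
    QuadraticMap.polar_smul_left, QuadraticMap.polar_smul_right, polar_comm' Q v u, huv,
    polar_comm' Q x u, polar_comm' Q x v]
  simp only [smul_eq_mul]
  ring

/-- The Siegel transformation as an isometry. -/
def siegel (c : F) : ↥(isometryGroup F ⇑Q) :=
  mkIsometry Q (siegelMatrix ⇑Q u v c) (siegelMatrix ⇑Q u v (-c))
    (by rw [siegelMatrix_mul hu hv huv, add_neg_cancel, siegelMatrix_zero])
    (by rw [siegelMatrix_mul hu hv huv, neg_add_cancel, siegelMatrix_zero])
    (Q_siegelMatrix_mulVec hu hv huv c)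

end Siegel

/-! ### Reflections -/

section Reflection

variable {Q}

theorem reflection_formula {v : ι → F} (hv : Q v ≠ 0) :
    reflectionMatrix ⇑Q v *ᵥ v = -v := by
  rw [reflectionMatrix_mulVec, polar_self', mul_left_comm, inv_mul_cancel₀ hv, mul_one, two_smul]
  abel

theorem reflectionMatrix_sq {v : ι → F} (hv : Q v ≠ 0) :
    reflectionMatrix ⇑Q v * reflectionMatrix ⇑Q v = 1 := by
  apply Matrix.toLin'.injective
  apply LinearMap.ext
  intro x
  simp only [Matrix.toLin'_apply, ← mulVec_mulVec, one_mulVec, reflectionMatrix_mulVec]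
  rw [QuadraticMap.polar_sub_right, QuadraticMap.polar_smul_right, polar_self', smul_eq_mul]
  have : (Q v)⁻¹ * (polar (⇑Q) v x - (Q v)⁻¹ * polar (⇑Q) v x * (2 * Q v)) =
      -((Q v)⁻¹ * polar (⇑Q) v x) := by
    field_simp
    ring
  rw [this, neg_smul]
  abel

theorem Q_reflectionMatrix_mulVec {v : ι → F} (hv : Q v ≠ 0) (x : ι → F) :
    Q (reflectionMatrix ⇑Q v *ᵥ x) = Q x := by
  rw [reflectionMatrix_mulVec, map_sub', map_smul', QuadraticMap.polar_smul_right, smul_eq_mul,
    polar_comm' Q x v]
  field_simp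
  ring

/-- The reflection in a non-singular vector. -/
def reflection {v : ι → F} (hv : Q v ≠ 0) : ↥(isometryGroup F ⇑Q) :=
  mkIsometry Q (reflectionMatrix ⇑Q v) (reflectionMatrix ⇑Q v) (reflectionMatrix_sq hv)
    (reflectionMatrix_sq hv) (Q_reflectionMatrix_mulVec hv)

theorem act_reflection {v : ι → F} (hv : Q v ≠ 0) (x : ι → F) :
    act Q (reflection hv) x = x - ((Q v)⁻¹ * polar (⇑Q) v x) • v :=
  reflectionMatrix_mulVec Q v x

theorem act_reflection_self {v : ι → F} (hv : Q v ≠ 0) : act Q (reflection hv) v = -v :=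
  reflection_formula hv

theorem act_reflection_of_ortho {v : ι → F} (hv : Q v ≠ 0) {x : ι → F}
    (hx : polar (⇑Q) v x = 0) : act Q (reflection hv) x = x := by
  simp [act_reflection, hx]

theorem reflection_mul_self {v : ι → F} (hv : Q v ≠ 0) :
    reflection hv * reflection hv = 1 :=
  eq_of_matrix Q (reflectionMatrix_sq hv)

theorem reflection_inv {v : ι → F} (hv : Q v ≠ 0) : (reflection hv)⁻¹ = reflection hv :=
  inv_eq_of_mul_eq_one_right (reflection_mul_self hv)

theorem conj_reflection (g : ↥(isometryGroup F ⇑Q)) {v : ι → F} (hv : Q v ≠ 0) :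
    g * reflection hv * g⁻¹ = reflection (v := act Q g v) (by rwa [Q_act]) := by
  apply ext_act Q
  intro x
  rw [act_mul, act_mul, act_reflection, act_reflection, Q_act, act_sub, act_smul, act_act_inv]
  conv_rhs => rw [show x = act Q g (act Q g⁻¹ x) from (act_act_inv Q g x).symm, polar_act]
  rw [act_act_inv]

theorem reflection_smul {v : ι → F} (hv : Q v ≠ 0) {t : F} (ht : t ≠ 0) :
    reflection (Q := Q) (v := t • v) (by simp [map_smul', ht, hv]) = reflection hv := by
  apply ext_act Q
  intro x
  rw [act_reflection, act_reflection, map_smul', QuadraticMap.polar_smul_left, smul_smul]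
  congr 2
  simp only [smul_eq_mul]
  field_simp

theorem reflection_neg {v : ι → F} (hv : Q v ≠ 0) :
    reflection (Q := Q) (v := -v) (by simpa using hv) = reflection hv := by
  have := reflection_smul hv (t := -1) (by simp)
  simp only [neg_smul, one_smul] at this
  exact this

theorem reflection_congr {v w : ι → F} (h : v = w) (hv : Q v ≠ 0) :
    reflection hv = reflection (v := w) (h ▸ hv) := by
  subst h; rfl

theorem det_reflectionMatrix {v : ι → F} (hv : Q v ≠ 0) :
    (reflectionMatrix ⇑Q v).det = -1 := by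
  have h : reflectionMatrix ⇑Q v =
      1 + replicateCol Unit (-((Q v)⁻¹) • v) * replicateRow Unit (polarVec ⇑Q v) := by
    rw [← vecMulVec_eq, smul_vecMulVec, reflectionMatrix, neg_smul, sub_eq_add_neg]
  rw [h, det_one_add_replicateCol_mul_replicateRow, dotProduct_smul, polarVec_dot, polar_self',
    smul_eq_mul]
  field_simp
  ring

/-- The determinant, as a homomorphism. -/
noncomputable def detHom : ↥(isometryGroup F ⇑Q) →* Fˣ :=
  Matrix.GeneralLinearGroup.det.comp (isometryGroup F ⇑Q).subtype

theorem detHom_coe (g : ↥(isometryGroup F ⇑Q)) :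
    ((detHom g : Fˣ) : F) = (((g : GL ι F) : Matrix ι ι F)).det := rfl

theorem detHom_reflection {v : ι → F} (hv : Q v ≠ 0) :
    detHom (reflection hv) = (-1 : Fˣ) :=
  Units.ext (by rw [detHom_coe, Units.val_neg, Units.val_one]; exact det_reflectionMatrix hv)

/-- An isometry fixing every vector orthogonal to the anisotropic `w` and fixing `w` is trivial. -/
theorem eq_one_of_fix_ortho (g : ↥(isometryGroup F ⇑Q)) {w : ι → F} (hw : Q w ≠ 0)
    (h2 : (2 : F) ≠ 0) (h : ∀ x, polar (⇑Q) w x = 0 → act Q g x = x) (hgw : act Q g w = w) :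
    g = 1 := by
  apply ext_act Q
  intro x
  rw [act_one]
  obtain ⟨a, ha⟩ : ∃ a, a = polar (⇑Q) w x / (2 * Q w) := ⟨_, rfl⟩
  have hx : polar (⇑Q) w (x - a • w) = 0 := by
    rw [QuadraticMap.polar_sub_right, QuadraticMap.polar_smul_right, polar_self', smul_eq_mul, ha,
      div_mul_cancel₀ _ (mul_ne_zero h2 hw), sub_self]
  have hh := h _ hx
  rw [act_sub, act_smul, hgw] at hh
  exact sub_left_injective hh

end Reflection

/-! ### Orthogonal bases, binary forms, generation by reflections -/

section Generation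

variable {Q}
variable (h2 : (2 : F) ≠ 0)

include h2 in
theorem exists_orthogonalBasis (hQ : (QuadraticMap.polarBilin Q).Nondegenerate) :
    ∃ b : Module.Basis (Fin (Fintype.card ι)) F (ι → F),
      (∀ i j, i ≠ j → polar (⇑Q) (b i) (b j) = 0) ∧ ∀ i, Q (b i) ≠ 0 := by
  haveI : Invertible (2 : F) := invertibleOfNonzero h2
  have hs : LinearMap.IsSymm (QuadraticMap.polarBilin Q) :=
    ⟨fun x y => polar_comm' Q x y⟩
  obtain ⟨v, hv⟩ := LinearMap.BilinForm.exists_orthogonal_basis hs
  have hne := hv.not_isOrtho_basis_self_of_separatingLeft hQ.1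
  refine ⟨v.reindex (finCongr (Module.finrank_fintype_fun_eq_card F)), ?_, ?_⟩
  · intro i j hij
    simp only [Module.Basis.reindex_apply]
    exact hv fun h => hij ((finCongr (Module.finrank_fintype_fun_eq_card F)).symm.injective h)
  · intro i hi
    simp only [Module.Basis.reindex_apply] at hi
    apply hne ((finCongr (Module.finrank_fintype_fun_eq_card F)).symm i)
    show (QuadraticMap.polarBilin Q) _ _ = 0
    rw [QuadraticMap.polarBilin_apply_apply, polar_self', hi, mul_zero]

include h2 in
/-- A non-degenerate binary diagonal form over a finite field of odd order represents everything. -/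
theorem binary_universal [Fintype F] {a b : F} (ha : a ≠ 0) (hb : b ≠ 0) (c : F) :
    ∃ s t : F, a * s ^ 2 + b * t ^ 2 = c := by
  open Polynomial in
  obtain ⟨s, t, hst⟩ := FiniteField.exists_root_sum_quadratic
    (f := C a * X ^ 2 - C c) (g := C b * X ^ 2)
    (by
      rw [degree_sub_eq_left_of_degree_lt, degree_C_mul_X_pow 2 ha]
      · rfl
      · rw [degree_C_mul_X_pow 2 ha]
        exact lt_of_le_of_lt degree_C_le (by norm_num))
    (degree_C_mul_X_pow 2 hb)
    (FiniteField.odd_card_of_char_ne_two (fun h => h2 (by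
      have := CharP.cast_eq_zero F (ringChar F)
      rw [h] at this
      exact_mod_cast this)))
  refine ⟨s, t, ?_⟩
  simp only [Polynomial.eval_sub, Polynomial.eval_mul, Polynomial.eval_C, Polynomial.eval_pow,
    Polynomial.eval_X] at hst
  linear_combination hst

include h2 in
theorem exists_norm_in_plane [Fintype F] {x y : ι → F} (hx : Q x ≠ 0) (hy : Q y ≠ 0)
    (hxy : polar (⇑Q) x y = 0) (c : F) : ∃ s t : F, Q (s • x + t • y) = c := by
  obtain ⟨s, t, h⟩ := binary_universal h2 hx hy c
  refine ⟨s, t, ?_⟩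
  rw [map_add', map_smul', map_smul', QuadraticMap.polar_smul_left, QuadraticMap.polar_smul_right,
    hxy, ← h]
  simp only [smul_eq_mul]
  ring

include h2 in
/-- Two vectors of the same non-zero norm: one of the sum and the difference is non-singular. -/
theorem sub_or_add_anisotropic {x y : ι → F} (hx : Q x ≠ 0) (hxy : Q x = Q y) :
    Q (x - y) ≠ 0 ∨ Q (x + y) ≠ 0 := by
  by_contra h
  simp only [not_or, not_not, map_sub', map_add', ← hxy] at h
  exact mul_ne_zero h2 (mul_ne_zero h2 hx) (by linear_combination h.1 + h.2)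

theorem reflection_sub_apply {x y : ι → F} (hxy : Q x = Q y) (h : Q (x - y) ≠ 0) :
    act Q (reflection h) x = y := by
  have hp : polar (⇑Q) (x - y) x = Q (x - y) := by
    rw [QuadraticMap.polar_sub_left, polar_self', map_sub', polar_comm' Q y x, ← hxy]
    ring
  rw [act_reflection, hp, inv_mul_cancel₀ h, one_smul, sub_sub_cancel]

theorem reflection_add_apply {x y : ι → F} (hxy : Q x = Q y) (h : Q (x + y) ≠ 0) :
    act Q (reflection h) x = -y := by
  have h' : Q x = Q (-y) := by rw [QuadraticMap.map_neg, hxy]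
  have := reflection_sub_apply (Q := Q) h' (by rwa [sub_neg_eq_add])
  rwa [reflection_congr (sub_neg_eq_add x y)] at this

include h2 in
/-- Reflections in vectors of equal norm are conjugate. -/
theorem reflection_conjugate {x y : ι → F} (hx : Q x ≠ 0) (hy : Q y ≠ 0) (hxy : Q x = Q y) :
    ∃ g : ↥(isometryGroup F ⇑Q), g * reflection hx * g⁻¹ = reflection hy := by
  rcases sub_or_add_anisotropic h2 hx hxy with h | h
  · exact ⟨reflection h, by rw [conj_reflection]; exact reflection_congr (reflection_sub_apply hxy h) _⟩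
  · refine ⟨reflection h, ?_⟩
    rw [conj_reflection, reflection_congr (reflection_add_apply hxy h)]
    exact reflection_neg hy

/-- The set of all reflections. -/
def reflections : Set ↥(isometryGroup F ⇑Q) :=
  {g | ∃ (v : ι → F) (hv : Q v ≠ 0), g = reflection hv}

include h2 in
theorem closure_reflections (hQ : (QuadraticMap.polarBilin Q).Nondegenerate) :
    Subgroup.closure (reflections (Q := Q)) = ⊤ := by
  obtain ⟨b, hb, hbn⟩ := exists_orthogonalBasis h2 hQ
  set R := Subgroup.closure (reflections (Q := Q)) with hR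
  have hr : ∀ {v : ι → F} (hv : Q v ≠ 0), reflection hv ∈ R :=
    fun {v} hv => Subgroup.subset_closure ⟨v, hv, rfl⟩
  suffices key : ∀ k : ℕ, k ≤ Fintype.card ι → ∀ g : ↥(isometryGroup F ⇑Q),
      ∃ h ∈ R, ∀ i : Fin (Fintype.card ι), (i : ℕ) < k → act Q (h * g) (b i) = b i by
    rw [eq_top_iff]
    intro g _
    obtain ⟨h, hh, hfix⟩ := key _ le_rfl g
    have hone : h * g = 1 := by
      apply ext_act Q
      intro x
      rw [act_one, ← b.sum_repr x]
      simp only [act, mulVec_sum, mulVec_smul]
      exact Finset.sum_congr rfl fun i _ => by rw [← act, hfix i i.2]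
    rw [eq_inv_of_mul_eq_one_right hone]
    exact R.inv_mem hh
  intro k
  induction k with
  | zero => exact fun _ g => ⟨1, R.one_mem, fun i hi => absurd hi (Nat.not_lt_zero _)⟩
  | succ k ih =>
    intro hk g
    obtain ⟨h, hh, hfix⟩ := ih (by omega) g
    set e := b ⟨k, by omega⟩ with he
    set y := act Q (h * g) e with hy
    have hye : Q y = Q e := Q_act Q _ _
    have hort : ∀ i : Fin (Fintype.card ι), (i : ℕ) < k →
        polar (⇑Q) e (b i) = 0 ∧ polar (⇑Q) y (b i) = 0 := by
      intro i hi
      have h0 : polar (⇑Q) e (b i) = 0 := hb _ _ (by intro hh; rw [← hh] at hi; simp at hi)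
      refine ⟨h0, ?_⟩
      rw [hy, ← hfix i hi, polar_act, h0]
    have hyn : Q y ≠ 0 := hye ▸ hbn _
    rcases sub_or_add_anisotropic h2 hyn hye with hd | hs
    · refine ⟨reflection hd * h, R.mul_mem (hr hd) hh, fun i hi => ?_⟩
      rw [mul_assoc, act_mul]
      rcases Nat.lt_succ_iff_lt_or_eq.mp hi with hlt | heq
      · rw [hfix i hlt, act_reflection_of_ortho]
        rw [QuadraticMap.polar_sub_left, (hort i hlt).1, (hort i hlt).2, sub_self]
      · have hik : i = ⟨k, by omega⟩ := Fin.ext heq
        rw [hik, ← he]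
        exact reflection_sub_apply hye hd
    · refine ⟨reflection (hbn ⟨k, by omega⟩) * (reflection hs * h),
        R.mul_mem (hr _) (R.mul_mem (hr hs) hh), fun i hi => ?_⟩
      rw [mul_assoc, mul_assoc, act_mul, act_mul]
      rcases Nat.lt_succ_iff_lt_or_eq.mp hi with hlt | heq
      · rw [hfix i hlt, act_reflection_of_ortho hs (by
          rw [QuadraticMap.polar_add_left, (hort i hlt).1, (hort i hlt).2, add_zero]),
          act_reflection_of_ortho]
        exact (hort i hlt).1
      · have hik : i = ⟨k, by omega⟩ := Fin.ext heq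
        rw [hik]
        show act Q (reflection _) (act Q (reflection hs) y) = _
        rw [reflection_add_apply hye hs, act_neg, act_reflection_self, neg_neg]

include h2 in
/-- Two homomorphisms agreeing on all reflections are equal. -/
theorem hom_ext {G : Type*} [Group G] (hQ : (QuadraticMap.polarBilin Q).Nondegenerate)
    {φ ψ : ↥(isometryGroup F ⇑Q) →* G}
    (h : ∀ (v : ι → F) (hv : Q v ≠ 0), φ (reflection hv) = ψ (reflection hv)) : φ = ψ := by
  refine MonoidHom.eq_of_eqOn_dense (closure_reflections h2 hQ) ?_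
  rintro g ⟨v, hv, rfl⟩
  exact h v hv

end Generation

/-! ### The spinor norm -/

section Spinor

variable {Q}
variable [Fintype F]

/-- The permutation induced on the vectors of norm `c`. -/
def normPerm (c : F) : ↥(isometryGroup F ⇑Q) →* Equiv.Perm {x : ι → F // Q x = c} where
  toFun g :=
    { toFun := fun x => ⟨act Q g x, by rw [Q_act]; exact x.2⟩
      invFun := fun x => ⟨act Q g⁻¹ x, by rw [Q_act]; exact x.2⟩
      left_inv := fun x => Subtype.ext (act_inv_act Q g x)
      right_inv := fun x => Subtype.ext (act_act_inv Q g x) }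
  map_one' := Equiv.ext fun x => Subtype.ext (act_one Q x)
  map_mul' g h := Equiv.ext fun x => Subtype.ext (act_mul Q g h x)

/-- The spinor norm with respect to the norm `c`: the sign of the permutation on vectors of norm `c`. -/
noncomputable def theta (c : F) : ↥(isometryGroup F ⇑Q) →* ℤˣ := by
  classical exact Equiv.Perm.sign.comp (normPerm (Q := Q) c)

theorem four_dvd_card_of_free {α : Type*} [DecidableEq α] (r s : α → α)
    (hr : ∀ x, r (r x) = x) (hs : ∀ x, s (s x) = x) (hrs : ∀ x, r (s x) = s (r x)) :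
    ∀ S : Finset α, (∀ x ∈ S, r x ∈ S) → (∀ x ∈ S, s x ∈ S) →
      (∀ x ∈ S, r x ≠ x ∧ s x ≠ x ∧ r (s x) ≠ x) → 4 ∣ S.card := by
  intro S
  induction S using Finset.strongInduction with
  | H S ih =>
    intro hr' hs' hfree
    rcases S.eq_empty_or_nonempty with rfl | ⟨x, hx⟩
    · simp
    set T : Finset α := {x, r x, s x, r (s x)} with hT
    have hTS : T ⊆ S := by
      intro z hz
      simp only [hT, Finset.mem_insert, Finset.mem_singleton] at hz
      rcases hz with rfl | rfl | rfl | rfl
      exacts [hx, hr' _ hx, hs' _ hx, hr' _ (hs' _ hx)]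
    obtain ⟨h1, h2, h3⟩ := hfree x hx
    have d1 : r x ≠ s x := fun h => h3 (by rw [← h, hr])
    have d2 : r x ≠ r (s x) := fun h => h2 (by
      have := congrArg r h; rw [hr, hr] at this; exact this.symm)
    have d3 : s x ≠ r (s x) := fun h => h1 (by
      have := congrArg s h; rw [hs, ← hrs, hs] at this; exact this.symm)
    have hTc : T.card = 4 := by
      rw [hT, Finset.card_insert_of_notMem (by simp [h1.symm, h2.symm, h3.symm]),
        Finset.card_insert_of_notMem (by simp [d1, d2]),
        Finset.card_insert_of_notMem (by simp [d3]), Finset.card_singleton]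
    have hTr : ∀ z ∈ T, r z ∈ T ∧ s z ∈ T := by
      intro z hz
      simp only [hT, Finset.mem_insert, Finset.mem_singleton] at hz ⊢
      rcases hz with rfl | rfl | rfl | rfl <;>
        simp [hr, hs, hrs]
    have := ih (S \ T) (Finset.sdiff_ssubset hTS ⟨x, by simp [hT]⟩) ?_ ?_ ?_
    · rw [← Finset.card_sdiff_add_card_eq_card hTS, hTc]
      exact dvd_add this dvd_rfl
    · intro z hz
      simp only [Finset.mem_sdiff] at hz ⊢
      exact ⟨hr' _ hz.1, fun h => hz.2 (by simpa [hr] using (hTr _ h).1)⟩
    · intro z hz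
      simp only [Finset.mem_sdiff] at hz ⊢
      exact ⟨hs' _ hz.1, fun h => hz.2 (by simpa [hs] using (hTr _ h).2)⟩
    · exact fun z hz => hfree z (Finset.mem_sdiff.mp hz).1

open Classical in
theorem theta_reflection (h2 : (2 : F) ≠ 0) {c : F} (hc : c ≠ 0) {v : ι → F} (hv : Q v ≠ 0) :
    theta (Q := Q) c (reflection hv) = if IsSquare (c * Q v) then -1 else 1 := by
  set σ := normPerm (Q := Q) c (reflection hv) with hσ
  have hσ2 : σ ^ 2 = 1 := by rw [hσ, sq, ← map_mul, reflection_mul_self, map_one]
  have hθ : theta (Q := Q) c (reflection hv) = Equiv.Perm.sign σ := by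
    unfold theta
    rfl
  rw [hθ, Equiv.Perm.sign_of_pow_two_eq_one hσ2]
  set r : (ι → F) → (ι → F) := act Q (reflection hv) with hrdef
  have hrr : ∀ x, r (r x) = x := fun x => by
    rw [hrdef, ← act_mul, reflection_mul_self, act_one]
  set S : Finset (ι → F) := Finset.univ.filter (fun x => Q x = c ∧ r x ≠ x) with hS
  have hcard : Fintype.card {x : ι → F // Q x = c} -
      Fintype.card (Function.fixedPoints σ) = S.card := by
    rw [← Fintype.card_subtype_compl, Fintype.card_subtype, hS]
    rw [show Finset.univ.filter (fun x : ι → F => Q x = c ∧ r x ≠ x) =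
        (Finset.univ.filter (fun x : {x : ι → F // Q x = c} => ¬ x ∈ Function.fixedPoints σ)).map
          (Function.Embedding.subtype _) from ?_, Finset.card_map]
    ext x
    simp only [Finset.mem_filter, Finset.mem_univ, true_and, Finset.mem_map,
      Function.Embedding.coe_subtype, Function.mem_fixedPoints, Function.IsFixedPt]
    constructor
    · rintro ⟨hx, hne⟩
      exact ⟨⟨x, hx⟩, fun h => hne (congrArg Subtype.val h), rfl⟩
    · rintro ⟨⟨y, hy⟩, hne, rfl⟩
      exact ⟨hy, fun h => hne (Subtype.ext h)⟩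
  rw [hcard]
  -- the points where the reflection and minus one coincide
  set L : Finset (ι → F) := S.filter (fun x => r x = -x) with hL
  set M : Finset (ι → F) := S.filter (fun x => ¬ r x = -x) with hM
  have hrneg : ∀ x, r (-x) = -r x := fun x => act_neg Q _ x
  have hxne : ∀ x, Q x = c → -x ≠ x := by
    intro x hx h
    have hx0 : x = 0 := by
      have : (2 : F) • x = 0 := by
        rw [two_smul]
        nth_rewrite 1 [← h]
        exact neg_add_cancel x
      exact (smul_eq_zero.mp this).resolve_left h2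
    rw [hx0, QuadraticMap.map_zero] at hx
    exact hc hx.symm
  have hM4 : 4 ∣ M.card := by
    refine four_dvd_card_of_free r (fun x => -x) hrr (fun x => neg_neg x) hrneg M ?_ ?_ ?_
    · intro x hx
      simp only [hM, hS, Finset.mem_filter, Finset.mem_univ, true_and] at hx ⊢
      obtain ⟨⟨hQx, hne⟩, hneg⟩ := hx
      refine ⟨⟨by rw [hrdef, Q_act, hQx], fun h => hne (by rw [hrr] at h; exact h.symm)⟩, fun h => ?_⟩
      rw [hrr] at h
      exact hneg (neg_eq_iff_eq_neg.mp h.symm)
    · intro x hx
      simp only [hM, hS, Finset.mem_filter, Finset.mem_univ, true_and] at hx ⊢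
      obtain ⟨⟨hQx, hne⟩, hneg⟩ := hx
      refine ⟨⟨by rw [QuadraticMap.map_neg, hQx], fun h => hne ?_⟩, fun h => hneg ?_⟩
      · rw [hrneg] at h; exact neg_injective h
      · rw [hrneg, neg_neg] at h; exact neg_eq_iff_eq_neg.mp h
    · intro x hx
      simp only [hM, hS, Finset.mem_filter, Finset.mem_univ, true_and] at hx
      obtain ⟨⟨hQx, hne⟩, hneg⟩ := hx
      refine ⟨hne, hxne x hQx, fun h => hneg ?_⟩
      rw [hrneg] at h
      exact neg_eq_iff_eq_neg.mp h
  have hLline : ∀ x, x ∈ L ↔ ∃ a : F, x = a • v ∧ a * a * Q v = c := by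
    intro x
    simp only [hL, hS, Finset.mem_filter, Finset.mem_univ, true_and]
    constructor
    · rintro ⟨⟨hQx, -⟩, hneg⟩
      rw [hrdef, act_reflection] at hneg
      refine ⟨(Q v)⁻¹ * polar (⇑Q) v x / 2, ?_, ?_⟩
      · have h3 : ((Q v)⁻¹ * polar (⇑Q) v x) • v = (2 : F) • x := by
          rw [two_smul]
          linear_combination (norm := module) -hneg
        rw [div_eq_inv_mul, mul_smul, h3, smul_smul, inv_mul_cancel₀ h2, one_smul]
      · have h3 : ((Q v)⁻¹ * polar (⇑Q) v x) • v = (2 : F) • x := by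
          rw [two_smul]
          linear_combination (norm := module) -hneg
        rw [← map_smul' Q, div_eq_inv_mul, mul_smul, h3, smul_smul, inv_mul_cancel₀ h2, one_smul,
          hQx]
    · rintro ⟨a, rfl, ha⟩
      have hneg : r (a • v) = -(a • v) := by
        rw [hrdef, act_smul, act_reflection_self, smul_neg]
      refine ⟨⟨by rw [map_smul', ha], ?_⟩, hneg⟩
      rw [hneg]
      exact hxne _ (by rw [map_smul', ha])
  have hsplit : S.card = L.card + M.card := (Finset.card_filter_add_card_filter_not _).symm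
  obtain ⟨k, hk⟩ := hM4
  by_cases hsq : IsSquare (c * Q v)
  · rw [if_pos hsq]
    obtain ⟨s, hs⟩ := hsq
    have hs0 : s ≠ 0 := by
      rintro rfl
      exact mul_ne_zero hc hv (by simpa using hs)
    set a : F := s / Q v with ha
    have haa : a * a * Q v = c := by
      rw [ha]; field_simp; linear_combination -hs
    have ha0 : a ≠ 0 := div_ne_zero hs0 hv
    have hLeq : L = {a • v, -(a • v)} := by
      ext x
      rw [hLline, Finset.mem_insert, Finset.mem_singleton]
      constructor
      · rintro ⟨b, rfl, hb⟩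
        have : b * b = a * a := mul_right_cancel₀ hv (hb.trans haa.symm)
        rcases mul_self_eq_mul_self_iff.mp this with rfl | rfl
        · exact Or.inl rfl
        · exact Or.inr (neg_smul a v)
      · rintro (rfl | rfl)
        · exact ⟨a, rfl, haa⟩
        · exact ⟨-a, (neg_smul a v).symm, by rw [neg_mul_neg, haa]⟩
    have hL2 : L.card = 2 := by
      rw [hLeq, Finset.card_pair (hxne _ (by rw [map_smul', haa])).symm]
    rw [hsplit, hL2, hk, show (2 + 4 * k) / 2 = 2 * k + 1 by omega, pow_succ, pow_mul, neg_one_sq,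
      one_pow, one_mul]
  · rw [if_neg hsq]
    have hL0 : L.card = 0 := by
      rw [Finset.card_eq_zero, Finset.eq_empty_iff_forall_notMem]
      intro x hx
      obtain ⟨a, -, ha⟩ := (hLline x).mp hx
      exact hsq ⟨a * Q v, by rw [← ha]; ring⟩
    rw [hsplit, hL0, hk, show (0 + 4 * k) / 2 = 2 * k by omega, pow_mul, neg_one_sq, one_pow]

theorem theta_reflection_of_square (h2 : (2 : F) ≠ 0) {c : F} (hc : c ≠ 0) {v : ι → F}
    (hv : Q v ≠ 0) (h : IsSquare (c * Q v)) : theta (Q := Q) c (reflection hv) = -1 := by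
  classical rw [theta_reflection h2 hc hv, if_pos h]

theorem theta_reflection_of_nonsquare (h2 : (2 : F) ≠ 0) {c : F} (hc : c ≠ 0) {v : ι → F}
    (hv : Q v ≠ 0) (h : ¬ IsSquare (c * Q v)) : theta (Q := Q) c (reflection hv) = 1 := by
  classical rw [theta_reflection h2 hc hv, if_neg h]

/-- In a finite field, the product of two non-squares is a square. -/
theorem isSquare_mul_of_not {a b : F} (ha : ¬ IsSquare a) (hb : ¬ IsSquare b) :
    IsSquare (a * b) := by
  classical
  have ha0 : a ≠ 0 := fun h => ha (h ▸ IsSquare.zero)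
  have hb0 : b ≠ 0 := fun h => hb (h ▸ IsSquare.zero)
  have hchar : ringChar F ≠ 2 := fun h => ha (FiniteField.isSquare_of_char_two h a)
  rw [← quadraticChar_one_iff_isSquare (mul_ne_zero ha0 hb0), map_mul,
    (quadraticChar_neg_one_iff_not_isSquare).mpr ha, (quadraticChar_neg_one_iff_not_isSquare).mpr hb]
  norm_num

theorem exists_nonsquare' (h2 : (2 : F) ≠ 0) : ∃ ν : F, ν ≠ 0 ∧ ¬ IsSquare ν := by
  have hchar : ringChar F ≠ 2 := fun h => h2 (by
    have := CharP.cast_eq_zero F (ringChar F)
    rw [h] at this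
    exact_mod_cast this)
  obtain ⟨ν, hν⟩ := FiniteField.exists_nonsquare hchar
  exact ⟨ν, fun h => hν (h ▸ IsSquare.zero), hν⟩

theorem isSquare_mul_right_iff {a : F} {s : F} (hs : s ≠ 0) :
    IsSquare (a * (s * s)) ↔ IsSquare a := by
  constructor
  · rintro ⟨t, ht⟩
    exact ⟨t / s, by field_simp; linear_combination ht⟩
  · rintro ⟨t, rfl⟩
    exact ⟨t * s, by ring⟩

variable (h2 : (2 : F) ≠ 0) (hQ : (QuadraticMap.polarBilin Q).Nondegenerate)

include h2 hQ in
/-- `θ` only depends on the square class of `c`, and the two classes multiply to the determinant. -/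
theorem det_eq_one_iff {c ν : F} (hc : c ≠ 0) (hν : ν ≠ 0) (hns : ¬ IsSquare ν)
    (g : ↥(isometryGroup F ⇑Q)) :
    detHom g = 1 ↔ theta (Q := Q) c g * theta (Q := Q) (c * ν) g = 1 := by
  let φ : ℤˣ →* Fˣ := Units.map (Int.castRingHom F).toMonoidHom
  have hφ : φ (-1) = -1 := Units.ext (by simp [φ])
  have hinj : ∀ z : ℤˣ, φ z = 1 ↔ z = 1 := by
    intro z
    rcases Int.units_eq_one_or z with rfl | rfl
    · simp
    · rw [hφ]
      refine iff_of_false (fun h => ?_) (by decide)
      have := congrArg Units.val h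
      rw [Units.val_neg, Units.val_one] at this
      exact h2 (by linear_combination -this)
  have key : φ.comp (theta (Q := Q) c * theta (Q := Q) (c * ν)) = detHom := by
    refine hom_ext h2 hQ fun v hv => ?_
    rw [MonoidHom.comp_apply, MonoidHom.mul_apply, detHom_reflection, ← hφ]
    congr 1
    by_cases h : IsSquare (c * Q v)
    · rw [theta_reflection_of_square h2 hc hv h,
        theta_reflection_of_nonsquare h2 (mul_ne_zero hc hν) hv, mul_one]
      rintro ⟨t, ht⟩
      obtain ⟨s, hs⟩ := h
      have hs0 : s ≠ 0 := by rintro rfl; exact mul_ne_zero hc hv (by simpa using hs)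
      exact hns ⟨t / s, by field_simp; linear_combination ht - ν * hs⟩
    · rw [theta_reflection_of_nonsquare h2 hc hv h, one_mul,
        theta_reflection_of_square h2 (mul_ne_zero hc hν) hv]
      rw [show c * ν * Q v = (c * Q v) * ν by ring]
      exact isSquare_mul_of_not h hns
  rw [← key, MonoidHom.comp_apply, hinj]
  rfl

include h2 hQ in
theorem exists_norm (hn : 2 ≤ Fintype.card ι) (c : F) : ∃ v : ι → F, Q v = c := by
  obtain ⟨b, hb, hbn⟩ := exists_orthogonalBasis h2 hQ
  obtain ⟨s, t, h⟩ := exists_norm_in_plane h2 (hbn ⟨0, by omega⟩) (hbn ⟨1, by omega⟩)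
    (hb _ _ (by simp)) c
  exact ⟨_, h⟩

include h2 in
/-- Reflections whose norms lie in the same square class are conjugate. -/
theorem reflection_conjugate_of_class {x y : ι → F} (hx : Q x ≠ 0) (hy : Q y ≠ 0)
    (h : IsSquare (Q x * Q y)) :
    ∃ g : ↥(isometryGroup F ⇑Q), g * reflection hx * g⁻¹ = reflection hy := by
  obtain ⟨s, hs⟩ := h
  have hs0 : s ≠ 0 := by rintro rfl; exact mul_ne_zero hx hy (by simpa using hs)
  have ht : s / Q x ≠ 0 := div_ne_zero hs0 hx
  have hQt : Q ((s / Q x) • x) = Q y := by
    rw [map_smul']; field_simp; linear_combination -hs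
  obtain ⟨g, hg⟩ := reflection_conjugate h2 (by rwa [hQt]) hy hQt
  rw [reflection_smul hx ht] at hg
  exact ⟨g, hg⟩

include h2 in
theorem hom_comm_eq_of_class {A : Type*} [CommGroup A] (φ : ↥(isometryGroup F ⇑Q) →* A)
    {x y : ι → F} (hx : Q x ≠ 0) (hy : Q y ≠ 0) (h : IsSquare (Q x * Q y)) :
    φ (reflection hx) = φ (reflection hy) := by
  obtain ⟨g, hg⟩ := reflection_conjugate_of_class h2 hx hy h
  rw [← hg, map_mul, map_mul, map_inv, mul_inv_cancel_comm]

include h2 hQ in
/-- `Ω` is the kernel of `(det, θ)`: every homomorphism to an abelian group kills it. -/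
theorem mem_Omega_iff (hn : 2 ≤ Fintype.card ι) {c : F} (hc : c ≠ 0)
    (g : ↥(isometryGroup F ⇑Q)) :
    g ∈ Omega F ⇑Q ↔ detHom g = 1 ∧ theta (Q := Q) c g = 1 := by
  obtain ⟨ν, hν, hns⟩ := exists_nonsquare' h2
  constructor
  · intro hg
    exact ⟨MonoidHom.mem_ker.mp (Abelianization.commutator_subset_ker detHom hg),
      MonoidHom.mem_ker.mp (Abelianization.commutator_subset_ker (theta (Q := Q) c) hg)⟩
  · rintro ⟨hd, ht⟩
    obtain ⟨x, hx⟩ := exists_norm h2 hQ hn c
    obtain ⟨y, hy⟩ := exists_norm h2 hQ hn (c * ν)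
    subst hx
    have hyn : Q y ≠ 0 := hy ▸ mul_ne_zero hc hν
    set π : ↥(isometryGroup F ⇑Q) →* Abelianization ↥(isometryGroup F ⇑Q) := Abelianization.of
    set a := π (reflection hc) with ha
    set b := π (reflection hyn) with hb
    have ha2 : a * a = 1 := by rw [ha, ← map_mul, reflection_mul_self, map_one]
    have hb2 : b * b = 1 := by rw [hb, ← map_mul, reflection_mul_self, map_one]
    -- π factors through the two spinor norms
    let ea : ℤˣ → Abelianization ↥(isometryGroup F ⇑Q) := fun z => if z = 1 then 1 else a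
    let eb : ℤˣ → Abelianization ↥(isometryGroup F ⇑Q) := fun z => if z = 1 then 1 else b
    have hea : ∀ z w, ea (z * w) = ea z * ea w := by
      intro z w
      rcases Int.units_eq_one_or z with rfl | rfl <;> rcases Int.units_eq_one_or w with rfl | rfl <;>
        simp [ea, ha2]
    have heb : ∀ z w, eb (z * w) = eb z * eb w := by
      intro z w
      rcases Int.units_eq_one_or z with rfl | rfl <;> rcases Int.units_eq_one_or w with rfl | rfl <;>
        simp [eb, hb2]
    have key : π = ((MonoidHom.mk' ea hea).comp (theta (Q := Q) (Q x))) *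
        ((MonoidHom.mk' eb heb).comp (theta (Q := Q) (Q x * ν))) := by
      refine hom_ext h2 hQ fun v hv => ?_
      by_cases h : IsSquare (Q x * Q v)
      · have h' : ¬ IsSquare (Q x * ν * Q v) := by
          rintro ⟨t, htt⟩
          obtain ⟨s, hs⟩ := h
          have hs0 : s ≠ 0 := by rintro rfl; exact mul_ne_zero hc hv (by simpa using hs)
          exact hns ⟨t / s, by field_simp; linear_combination htt - ν * hs⟩
        rw [MonoidHom.mul_apply, MonoidHom.comp_apply, MonoidHom.comp_apply,
          theta_reflection_of_square h2 hc hv h,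
          theta_reflection_of_nonsquare h2 (mul_ne_zero hc hν) hv h']
        simp only [MonoidHom.mk'_apply, ea, eb, if_neg (show (-1 : ℤˣ) ≠ 1 by decide), if_pos, mul_one]
        exact (hom_comm_eq_of_class h2 π hc hv h).symm
      · have h' : IsSquare (Q x * ν * Q v) := by
          rw [show Q x * ν * Q v = (Q x * Q v) * ν by ring]
          exact isSquare_mul_of_not h hns
        rw [MonoidHom.mul_apply, MonoidHom.comp_apply, MonoidHom.comp_apply,
          theta_reflection_of_nonsquare h2 hc hv h,
          theta_reflection_of_square h2 (mul_ne_zero hc hν) hv h']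
        simp only [MonoidHom.mk'_apply, ea, eb, if_neg (show (-1 : ℤˣ) ≠ 1 by decide), if_pos, one_mul]
        exact (hom_comm_eq_of_class h2 π hyn hv (by rwa [hy])).symm
    have ht' : theta (Q := Q) (Q x * ν) g = 1 := by
      have := (det_eq_one_iff h2 hQ hc hν hns g).mp hd
      rwa [ht, one_mul] at this
    have hπ : π g = 1 := by
      rw [key, MonoidHom.mul_apply, MonoidHom.comp_apply, MonoidHom.comp_apply, ht, ht',
        map_one, map_one, one_mul]
    exact (QuotientGroup.eq_one_iff g).mp hπ

end Spinor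

end CfsgLib.OrthSpinor
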