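import Cfsg.Agent.Lib.Orth.Spinor

/-!
Siegel transformations: they are commutators in the isometry group, and for `n ≥ 5`, `q` odd,
they generate the commutator subgroup `Ω`.
-/

set_option autoImplicit false
set_option linter.unusedSectionVars false
set_option linter.unusedSimpArgs false

namespace CfsgLib.OrthSpinor

open scoped commutatorElement

open Matrix Cfsg
open QuadraticMap (polar)

variable {ι : Type} [Fintype ι] [DecidableEq ι] {F : Type*} [Field F]
variable {Q : QuadraticForm F (ι → F)}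

theorem eq_zero_of_polar (hQ : (QuadraticMap.polarBilin Q).Nondegenerate) {x : ι → F}
    (h : ∀ y, polar (⇑Q) x y = 0) : x = 0 :=
  hQ.1 x fun y => by rw [QuadraticMap.polarBilin_apply_apply]; exact h y

/-- A non-singular vector orthogonal to given pairwise orthogonal non-singular vectors. -/
theorem exists_ortho_anisotropic (h2 : (2 : F) ≠ 0)
    (hQ : (QuadraticMap.polarBilin Q).Nondegenerate) {k : ℕ} (p : Fin k → ι → F)
    (hp : ∀ i, Q (p i) ≠ 0) (hpp : ∀ i j, i ≠ j → polar (⇑Q) (p i) (p j) = 0)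
    (hk : k < Fintype.card ι) : ∃ z, Q z ≠ 0 ∧ ∀ i, polar (⇑Q) (p i) z = 0 := by
  classical
  by_contra hcon
  have hcon' : ∀ z, (∀ i, polar (⇑Q) (p i) z = 0) → Q z = 0 := fun z hz => by
    by_contra h
    exact hcon ⟨z, h, hz⟩
  let φ : (ι → F) →ₗ[F] (Fin k → F) := LinearMap.pi fun i => QuadraticMap.polarBilin Q (p i)
  obtain ⟨z, hz, hz0⟩ : ∃ z ∈ LinearMap.ker φ, z ≠ 0 := by
    apply Submodule.exists_mem_ne_zero_of_ne_bot
    apply LinearMap.ker_ne_bot_of_finrank_lt
    simpa using hk
  have hzo : ∀ i, polar (⇑Q) (p i) z = 0 := fun i => congrFun (LinearMap.mem_ker.mp hz) i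
  apply hz0
  apply eq_zero_of_polar hQ
  intro y
  obtain ⟨y', hy'⟩ : ∃ r', r' = y - ∑ i, (polar (⇑Q) (p i) y / (2 * Q (p i))) • p i := ⟨_, rfl⟩
  have hy'o : ∀ i, polar (⇑Q) (p i) y' = 0 := by
    intro j
    rw [hy', QuadraticMap.polar_sub_right, ← QuadraticMap.polarBilin_apply_apply Q (p j) (∑ i, _),
      map_sum, Finset.sum_eq_single j]
    · rw [map_smul, QuadraticMap.polarBilin_apply_apply, polar_self', smul_eq_mul,
        div_mul_cancel₀ _ (mul_ne_zero h2 (hp j)), sub_self]
    · intro i _ hij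
      rw [map_smul, QuadraticMap.polarBilin_apply_apply, hpp j i hij.symm, smul_zero]
    · simp
  have h1 : polar (⇑Q) z y' = 0 := by
    have hsum : Q (z + y') = 0 := hcon' _ fun i => by
      rw [QuadraticMap.polar_add_right, hzo, hy'o, add_zero]
    rw [map_add', hcon' z hzo, hcon' y' hy'o] at hsum
    simpa using hsum
  have h2' : polar (⇑Q) z (∑ i, (polar (⇑Q) (p i) y / (2 * Q (p i))) • p i) = 0 := by
    rw [← QuadraticMap.polarBilin_apply_apply, map_sum]
    refine Finset.sum_eq_zero fun i _ => ?_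
    rw [map_smul, QuadraticMap.polarBilin_apply_apply, polar_comm' Q z (p i), hzo, smul_zero]
  have : y = y' + ∑ i, (polar (⇑Q) (p i) y / (2 * Q (p i))) • p i := by rw [hy', sub_add_cancel]
  rw [this, QuadraticMap.polar_add_right, h1, h2', add_zero]

theorem conj_siegelMatrix (g h k : ↥(isometryGroup F ⇑Q)) {u v : ι → F} {c : F}
    (hg : ((g : GL ι F) : Matrix ι ι F) = siegelMatrix ⇑Q u v c)
    (hk : h * g * h⁻¹ = k) :
    ((k : GL ι F) : Matrix ι ι F) = siegelMatrix ⇑Q (act Q h u) (act Q h v) c := by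
  apply Matrix.toLin'.injective
  apply LinearMap.ext
  intro x
  show act Q k x = siegelMatrix ⇑Q (act Q h u) (act Q h v) c *ᵥ x
  have hgx : ∀ y, act Q g y = y + (c * polar (⇑Q) u y) • v - (c * polar (⇑Q) v y) • u := fun y => by
    rw [act, hg, siegelMatrix_mulVec]
  rw [← hk, act_mul, act_mul, hgx, siegelMatrix_mulVec, act_sub, act_add, act_smul, act_smul,
    act_act_inv]
  conv_rhs => rw [show x = act Q h (act Q h⁻¹ x) from (act_act_inv Q h x).symm, polar_act, polar_act]
  rw [act_act_inv]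

/-- A Siegel transformation is a commutator of two isometries. -/
theorem siegel_mem_commutatorSet (h2 : (2 : F) ≠ 0)
    (hQ : (QuadraticMap.polarBilin Q).Nondegenerate) {u v : ι → F} (hu : Q u = 0) (hv : Q v = 0)
    (huv : polar (⇑Q) u v = 0) (c : F) (g : ↥(isometryGroup F ⇑Q))
    (hg : ((g : GL ι F) : Matrix ι ι F) = siegelMatrix ⇑Q u v c) :
    g ∈ commutatorSet ↥(isometryGroup F ⇑Q) := by
  have hgx : ∀ y, act Q g y = y + (c * polar (⇑Q) u y) • v - (c * polar (⇑Q) v y) • u := fun y => by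
    rw [act, hg, siegelMatrix_mulVec]
  by_cases hw : ∃ w₀, polar (⇑Q) v w₀ = 0 ∧ polar (⇑Q) u w₀ ≠ 0
  · obtain ⟨w₀, hvw₀, huw₀⟩ := hw
    obtain ⟨w₁, hw₁⟩ : ∃ r', r' = (polar (⇑Q) u w₀)⁻¹ • w₀ := ⟨_, rfl⟩
    have huw₁ : polar (⇑Q) u w₁ = 1 := by
      rw [hw₁, QuadraticMap.polar_smul_right, smul_eq_mul, inv_mul_cancel₀ huw₀]
    have hvw₁ : polar (⇑Q) v w₁ = 0 := by
      rw [hw₁, QuadraticMap.polar_smul_right, hvw₀, smul_zero]
    obtain ⟨w, hwdef⟩ : ∃ r', r' = w₁ - Q w₁ • u := ⟨_, rfl⟩
    have huw : polar (⇑Q) u w = 1 := by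
      rw [hwdef, QuadraticMap.polar_sub_right, QuadraticMap.polar_smul_right, polar_self', hu,
        huw₁]
      simp
    have hvw : polar (⇑Q) v w = 0 := by
      rw [hwdef, QuadraticMap.polar_sub_right, QuadraticMap.polar_smul_right, polar_comm' Q v u,
        huv, hvw₁]
      simp
    have hQw : Q w = 0 := by
      rw [hwdef, map_sub', map_smul', QuadraticMap.polar_smul_right, hu, polar_comm' Q w₁ u, huw₁]
      simp
    have hp : Q (u + w) ≠ 0 := by rw [map_add', hu, hQw, huw]; simp
    have hm : Q (u - w) ≠ 0 := by rw [map_sub', hu, hQw, huw]; simp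
    set h := reflection hp * reflection hm with hh
    have h_u : act Q h u = -u := by
      have e1 : polar (⇑Q) (u - w) u = Q (u - w) := by
        rw [QuadraticMap.polar_sub_left, polar_self', map_sub', hu, hQw, polar_comm' Q w u, huw]
        ring
      have e2 : polar (⇑Q) (u + w) w = Q (u + w) := by
        rw [QuadraticMap.polar_add_left, polar_self', map_add', hu, hQw, huw]
        ring
      rw [hh, act_mul, act_reflection hm, e1, inv_mul_cancel₀ hm, one_smul, sub_sub_cancel,
        act_reflection hp, e2, inv_mul_cancel₀ hp, one_smul]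
      abel
    have h_v : act Q h v = v := by
      rw [hh, act_mul, act_reflection_of_ortho hm, act_reflection_of_ortho hp]
      · rw [QuadraticMap.polar_add_left, huv, polar_comm' Q w v, hvw, add_zero]
      · rw [QuadraticMap.polar_sub_left, huv, polar_comm' Q w v, hvw, sub_zero]
    set k := siegel hu hv huv (-c / 2) with hk
    refine ⟨h, k, ?_⟩
    have hconj := conj_siegelMatrix k h (h * k * h⁻¹) (c := -c / 2) rfl rfl
    rw [h_u, h_v] at hconj
    apply ext_act Q
    intro x
    rw [commutatorElement_def, act_mul, act, hconj, siegelMatrix_mulVec]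
    have hkinv : act Q k⁻¹ x = siegelMatrix ⇑Q u v (-(-c / 2)) *ᵥ x := rfl
    rw [hkinv, siegelMatrix_mulVec, hgx]
    simp only [QuadraticMap.polar_add_right, QuadraticMap.polar_sub_right,
      QuadraticMap.polar_smul_right, QuadraticMap.polar_neg_left, polar_self', hu, hv, huv,
      polar_comm' Q v u, smul_eq_mul]
    match_scalars <;> field_simp <;> ring
  · have hw' : ∀ w, polar (⇑Q) v w = 0 → polar (⇑Q) u w = 0 := fun w hvw => by
      by_contra h
      exact hw ⟨w, hvw, h⟩
    have hg1 : g = 1 := by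
      apply ext_act Q
      intro x
      rw [act_one, hgx]
      by_cases hv0 : ∀ z, polar (⇑Q) v z = 0
      · rw [eq_zero_of_polar hQ hv0]
        simp
      · obtain ⟨z₀, hz₀⟩ := not_forall.mp hv0
        obtain ⟨a, ha⟩ : ∃ r', r' = polar (⇑Q) u z₀ / polar (⇑Q) v z₀ := ⟨_, rfl⟩
        have hua : u = a • v := by
          rw [← sub_eq_zero]
          apply eq_zero_of_polar hQ
          intro z
          have := hw' (polar (⇑Q) v z₀ • z - polar (⇑Q) v z • z₀) (by
            rw [QuadraticMap.polar_sub_right, QuadraticMap.polar_smul_right,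
              QuadraticMap.polar_smul_right, smul_eq_mul, smul_eq_mul]
            ring)
          rw [QuadraticMap.polar_sub_right, QuadraticMap.polar_smul_right,
            QuadraticMap.polar_smul_right, smul_eq_mul, smul_eq_mul] at this
          rw [QuadraticMap.polar_sub_left, QuadraticMap.polar_smul_left, smul_eq_mul, ha]
          field_simp
          linear_combination this
        rw [hua, QuadraticMap.polar_smul_left]
        simp only [smul_eq_mul]
        module
    exact ⟨1, 1, by simp [hg1]⟩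

/-! ### Eichler transformations and generation of `Ω` -/

section Generation

variable (Q) in
/-- The set of Siegel transformations. -/
def siegelSet : Set ↥(isometryGroup F ⇑Q) :=
  {g | ∃ (u v : ι → F) (c : F), Q u = 0 ∧ Q v = 0 ∧ QuadraticMap.polar ⇑Q u v = 0 ∧
    ((g : Matrix.GeneralLinearGroup ι F) : Matrix ι ι F) = siegelMatrix ⇑Q u v c}

theorem closure_siegelSet_normal : (Subgroup.closure (siegelSet Q)).Normal := by
  refine ⟨fun n hn g => ?_⟩
  induction hn using Subgroup.closure_induction with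
  | mem x hx =>
    obtain ⟨u, v, c, hu, hv, huv, hx⟩ := hx
    refine Subgroup.subset_closure ⟨act Q g u, act Q g v, c, ?_, ?_, ?_, conj_siegelMatrix x g _ hx rfl⟩
    · rw [Q_act, hu]
    · rw [Q_act, hv]
    · rw [polar_act, huv]
  | one => simp
  | mul x y _ _ hx hy => simpa using Subgroup.mul_mem _ hx hy
  | inv x _ hx => simpa [mul_assoc] using Subgroup.inv_mem _ hx

/-- The function of an Eichler transformation. -/
def eichlerFun (Q : QuadraticForm F (ι → F)) (u l x : ι → F) : ι → F :=
  x + polar (⇑Q) u x • l - polar (⇑Q) l x • u - (Q l * polar (⇑Q) u x) • u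

/-- The Eichler transformation of `(u, l)` lies in the group generated by Siegel transformations. -/
def EichlerMem (Q : QuadraticForm F (ι → F)) (u l : ι → F) : Prop :=
  ∃ g ∈ Subgroup.closure (siegelSet Q), ∀ x, act Q g x = eichlerFun Q u l x

theorem eichlerMem_of_singular {u l : ι → F} (hu : Q u = 0) (hl : Q l = 0)
    (hul : polar (⇑Q) u l = 0) : EichlerMem Q u l := by
  refine ⟨siegel hu hl hul 1, Subgroup.subset_closure ⟨u, l, 1, hu, hl, hul, rfl⟩, fun x => ?_⟩
  rw [eichlerFun, hl, zero_mul, zero_smul, sub_zero]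
  show siegelMatrix ⇑Q u l 1 *ᵥ x = _
  rw [siegelMatrix_mulVec, one_mul, one_mul]

theorem eichlerMem_add {u l m : ι → F} (hu : Q u = 0) (hl : polar (⇑Q) u l = 0)
    (hm : polar (⇑Q) u m = 0) (h₁ : EichlerMem Q u l) (h₂ : EichlerMem Q u m) :
    EichlerMem Q u (l + m) := by
  obtain ⟨g, hg, hgx⟩ := h₁
  obtain ⟨k, hk, hkx⟩ := h₂
  refine ⟨g * k, Subgroup.mul_mem _ hg hk, fun x => ?_⟩
  rw [act_mul, hkx, hgx]
  simp only [eichlerFun, map_add', QuadraticMap.polar_add_right, QuadraticMap.polar_sub_right,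
    QuadraticMap.polar_smul_right, QuadraticMap.polar_add_left, polar_self', hu, hl, hm,
    polar_comm' Q l u, smul_eq_mul]
  match_scalars <;> ring

variable [Fintype F] (h2 : (2 : F) ≠ 0) (hQ : (QuadraticMap.polarBilin Q).Nondegenerate)
  (hn : 5 ≤ Fintype.card ι)
variable {u w : ι → F} (hu : Q u = 0) (hw : Q w = 0) (huw : polar (⇑Q) u w = 1)

include h2 hQ hn hu hw huw in
/-- Two orthogonal non-singular vectors and a singular one, orthogonal to a hyperbolic pair. -/
theorem exists_complement_vectors : ∃ a b e : ι → F,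
    (polar (⇑Q) u a = 0 ∧ polar (⇑Q) w a = 0 ∧ Q a ≠ 0) ∧
    (polar (⇑Q) u b = 0 ∧ polar (⇑Q) w b = 0 ∧ Q b ≠ 0) ∧ polar (⇑Q) a b = 0 ∧
    (polar (⇑Q) u e = 0 ∧ polar (⇑Q) w e = 0 ∧ Q e = 0 ∧ e ≠ 0) := by
  have hp : Q (u + w) ≠ 0 := by rw [map_add', hu, hw, huw]; simp
  have hm : Q (u - w) ≠ 0 := by rw [map_sub', hu, hw, huw]; simp
  have hpm : polar (⇑Q) (u + w) (u - w) = 0 := by
    rw [QuadraticMap.polar_add_left, QuadraticMap.polar_sub_right, QuadraticMap.polar_sub_right,
      polar_self', polar_self', polar_comm' Q w u, hu, hw, huw]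
    ring
  have hsplit : ∀ z, polar (⇑Q) (u + w) z = 0 → polar (⇑Q) (u - w) z = 0 →
      polar (⇑Q) u z = 0 ∧ polar (⇑Q) w z = 0 := by
    intro z h h'
    rw [QuadraticMap.polar_add_left] at h
    rw [QuadraticMap.polar_sub_left] at h'
    refine ⟨?_, ?_⟩
    · exact (mul_eq_zero.mp (show (2 : F) * polar (⇑Q) u z = 0 by linear_combination h + h')).resolve_left h2
    · exact (mul_eq_zero.mp (show (2 : F) * polar (⇑Q) w z = 0 by linear_combination h - h')).resolve_left h2
  obtain ⟨a, ha, hao⟩ := exists_ortho_anisotropic h2 hQ ![u + w, u - w]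
    (fun i => by fin_cases i <;> assumption)
    (fun i j hij => by
      fin_cases i <;> fin_cases j <;>
        first
          | exact absurd rfl hij
          | assumption
          | exact (polar_comm' Q _ _).trans hpm)
    (by omega)
  have ha1 : polar (⇑Q) (u + w) a = 0 := hao 0
  have ha2 : polar (⇑Q) (u - w) a = 0 := hao 1
  obtain ⟨b, hb, hbo⟩ := exists_ortho_anisotropic h2 hQ ![u + w, u - w, a]
    (fun i => by fin_cases i <;> assumption)
    (fun i j hij => by
      fin_cases i <;> fin_cases j <;>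
        first
          | exact absurd rfl hij
          | assumption
          | exact (polar_comm' Q _ _).trans hpm
          | exact (polar_comm' Q _ _).trans ha1
          | exact (polar_comm' Q _ _).trans ha2)
    (by omega)
  have hb1 : polar (⇑Q) (u + w) b = 0 := hbo 0
  have hb2 : polar (⇑Q) (u - w) b = 0 := hbo 1
  have hab : polar (⇑Q) a b = 0 := hbo 2
  obtain ⟨c, hc, hco⟩ := exists_ortho_anisotropic h2 hQ ![u + w, u - w, a, b]
    (fun i => by fin_cases i <;> assumption)
    (fun i j hij => by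
      fin_cases i <;> fin_cases j <;>
        first
          | exact absurd rfl hij
          | assumption
          | exact (polar_comm' Q _ _).trans hpm
          | exact (polar_comm' Q _ _).trans ha1
          | exact (polar_comm' Q _ _).trans ha2
          | exact (polar_comm' Q _ _).trans hb1
          | exact (polar_comm' Q _ _).trans hb2
          | exact (polar_comm' Q _ _).trans hab)
    (by omega)
  have hc1 : polar (⇑Q) (u + w) c = 0 := hco 0
  have hc2 : polar (⇑Q) (u - w) c = 0 := hco 1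
  have hac : polar (⇑Q) a c = 0 := hco 2
  have hbc : polar (⇑Q) b c = 0 := hco 3
  obtain ⟨s, t, hst⟩ := exists_norm_in_plane h2 ha hb hab (-Q c)
  obtain ⟨hua, hwa⟩ := hsplit a ha1 ha2
  obtain ⟨hub, hwb⟩ := hsplit b hb1 hb2
  obtain ⟨huc, hwc⟩ := hsplit c hc1 hc2
  refine ⟨a, b, s • a + t • b + c, ⟨hua, hwa, ha⟩, ⟨hub, hwb, hb⟩, hab, ?_, ?_, ?_, ?_⟩
  · simp [QuadraticMap.polar_add_right, QuadraticMap.polar_smul_right, hua, hub, huc]
  · simp [QuadraticMap.polar_add_right, QuadraticMap.polar_smul_right, hwa, hwb, hwc]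
  · rw [map_add', hst]
    simp [QuadraticMap.polar_add_left, QuadraticMap.polar_smul_left, hac, hbc]
  · intro h
    have := congrArg (polar (⇑Q) c) h
    rw [QuadraticMap.polar_add_right, QuadraticMap.polar_add_right, QuadraticMap.polar_smul_right,
      QuadraticMap.polar_smul_right, polar_comm' Q c a, hac, polar_comm' Q c b, hbc,
      QuadraticMap.polar_zero_right, polar_self'] at this
    simp [h2, hc] at this

include h2 hQ hn hu hw huw in
theorem eichlerMem_complement {l : ι → F} (hul : polar (⇑Q) u l = 0)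
    (hwl : polar (⇑Q) w l = 0) : EichlerMem Q u l := by
  obtain ⟨a, b, e, -, -, -, hue, hwe, he, he0⟩ := exists_complement_vectors h2 hQ hn hu hw huw
  -- a hyperbolic partner of `e` orthogonal to `u` and `w`
  obtain ⟨y, hy⟩ : ∃ y, polar (⇑Q) e y ≠ 0 := by
    by_contra h
    exact he0 (eq_zero_of_polar hQ fun y => by
      by_contra hy
      exact h ⟨y, hy⟩)
  obtain ⟨y₁, hy₁⟩ : ∃ r', r' = (polar (⇑Q) e y)⁻¹ • (y - polar (⇑Q) w y • u - polar (⇑Q) u y • w) := ⟨_, rfl⟩
  have huy : polar (⇑Q) u y₁ = 0 := by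
    simp [hy₁, QuadraticMap.polar_smul_right, QuadraticMap.polar_sub_right, polar_self', hu, huw]
  have hwy : polar (⇑Q) w y₁ = 0 := by
    simp [hy₁, QuadraticMap.polar_smul_right, QuadraticMap.polar_sub_right, polar_self', hw,
      polar_comm' Q w u, huw]
  have hey : polar (⇑Q) e y₁ = 1 := by
    simp [hy₁, QuadraticMap.polar_smul_right, QuadraticMap.polar_sub_right,
      polar_comm' Q e u, hue, polar_comm' Q e w, hwe, hy]
  obtain ⟨f, hf⟩ : ∃ r', r' = y₁ - Q y₁ • e := ⟨_, rfl⟩
  have huf : polar (⇑Q) u f = 0 := by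
    simp [hf, QuadraticMap.polar_sub_right, QuadraticMap.polar_smul_right, huy, hue]
  have hwf : polar (⇑Q) w f = 0 := by
    simp [hf, QuadraticMap.polar_sub_right, QuadraticMap.polar_smul_right, hwy, hwe]
  have hef : polar (⇑Q) e f = 1 := by
    simp [hf, QuadraticMap.polar_sub_right, QuadraticMap.polar_smul_right, hey, polar_self', he]
  have hQf : Q f = 0 := by
    rw [hf, map_sub', map_smul', QuadraticMap.polar_smul_right, polar_comm' Q y₁ e, hey, he]
    simp
  obtain ⟨z, hz⟩ : ∃ r', r' = l - polar (⇑Q) f l • e - polar (⇑Q) e l • f := ⟨_, rfl⟩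
  have huz : polar (⇑Q) u z = 0 := by
    simp [hz, QuadraticMap.polar_sub_right, QuadraticMap.polar_smul_right, hul, hue, huf]
  have hez : polar (⇑Q) e z = 0 := by
    simp [hz, QuadraticMap.polar_sub_right, QuadraticMap.polar_smul_right, polar_self', he, hef]
  have hfz : polar (⇑Q) f z = 0 := by
    simp [hz, QuadraticMap.polar_sub_right, QuadraticMap.polar_smul_right, polar_self', hQf,
      polar_comm' Q f e, hef]
  obtain ⟨z₁, hz₁⟩ : ∃ r', r' = z + e - Q z • f := ⟨_, rfl⟩
  have huz₁ : polar (⇑Q) u z₁ = 0 := by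
    simp [hz₁, QuadraticMap.polar_sub_right, QuadraticMap.polar_add_right,
      QuadraticMap.polar_smul_right, huz, hue, huf]
  have hQz₁ : Q z₁ = 0 := by
    rw [hz₁, map_sub', map_add', map_smul', QuadraticMap.polar_add_left,
      QuadraticMap.polar_smul_right, QuadraticMap.polar_smul_right, he, hQf,
      polar_comm' Q z e, hez, polar_comm' Q z f, hfz, hef]
    simp
  have hmul : ∀ (s : F) (x : ι → F), Q x = 0 → polar (⇑Q) u x = 0 → EichlerMem Q u (s • x) :=
    fun s x hx hux => eichlerMem_of_singular hu (by rw [map_smul', hx, mul_zero])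
      (by rw [QuadraticMap.polar_smul_right, hux, smul_zero])
  have hl : l = z₁ + ((polar (⇑Q) f l - 1) • e + (polar (⇑Q) e l + Q z) • f) := by
    rw [hz₁, hz]; module
  rw [hl]
  refine eichlerMem_add hu huz₁ ?_ (eichlerMem_of_singular hu hQz₁ huz₁)
    (eichlerMem_add hu ?_ ?_ (hmul _ e he hue) (hmul _ f hQf huf))
  · simp [QuadraticMap.polar_add_right, QuadraticMap.polar_smul_right, hue, huf]
  · simp [QuadraticMap.polar_smul_right, hue]
  · simp [QuadraticMap.polar_smul_right, huf]

include h2 hQ hn hu hw huw in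
/-- Every non-singular vector can be moved to `u + a • w` by Siegel transformations. -/
theorem siegel_normal_form {x : ι → F} (hx : Q x ≠ 0) :
    ∃ g ∈ Subgroup.closure (siegelSet Q), act Q g x = u + Q x • w := by
  have hwu : polar (⇑Q) w u = 1 := by rw [polar_comm', huw]
  have EU : ∀ (m z : ι → F), polar (⇑Q) u m = 0 → polar (⇑Q) w m = 0 →
      ∃ g ∈ Subgroup.closure (siegelSet Q), act Q g z = eichlerFun Q u m z := fun m z h1 h2' => by
    obtain ⟨g, hg, hgx⟩ := eichlerMem_complement h2 hQ hn hu hw huw h1 h2'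
    exact ⟨g, hg, hgx z⟩
  have EW : ∀ (m z : ι → F), polar (⇑Q) u m = 0 → polar (⇑Q) w m = 0 →
      ∃ g ∈ Subgroup.closure (siegelSet Q), act Q g z = eichlerFun Q w m z := fun m z h1 h2' => by
    obtain ⟨g, hg, hgx⟩ := eichlerMem_complement h2 hQ hn hw hu hwu h2' h1
    exact ⟨g, hg, hgx z⟩
  obtain ⟨a, b, -, ⟨hua, hwa, ha⟩, ⟨hub, hwb, hb⟩, hab, -⟩ :=
    exists_complement_vectors h2 hQ hn hu hw huw
  -- first the generic case
  have main : ∀ y : ι → F, Q y ≠ 0 → polar (⇑Q) u y ≠ 0 →
      ∃ g ∈ Subgroup.closure (siegelSet Q), act Q g y = u + Q y • w := by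
    intro y hy hβ
    obtain ⟨α, hα⟩ : ∃ r', r' = polar (⇑Q) w y := ⟨_, rfl⟩
    obtain ⟨β, hβdef⟩ : ∃ r', r' = polar (⇑Q) u y := ⟨_, rfl⟩
    replace hβ : β ≠ 0 := by rw [hβdef]; exact hβ
    obtain ⟨l, hl⟩ : ∃ r', r' = y - α • u - β • w := ⟨_, rfl⟩
    have hul : polar (⇑Q) u l = 0 := by
      simp [hl, QuadraticMap.polar_sub_right, QuadraticMap.polar_smul_right, polar_self', hu, huw,
        ← hβdef]
    have hwl : polar (⇑Q) w l = 0 := by
      simp [hl, QuadraticMap.polar_sub_right, QuadraticMap.polar_smul_right, polar_self', hw, hwu,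
        ← hα]
    have hyl : y = α • u + β • w + l := by rw [hl]; abel
    have hQy : Q y = α * β + Q l := by
      conv_lhs => rw [hyl]
      simp [map_add', map_smul', QuadraticMap.polar_add_left, QuadraticMap.polar_smul_left,
        QuadraticMap.polar_smul_right, hu, hw, huw, hul, hwl]
      ring
    obtain ⟨g₁, hg₁, e₁⟩ := EU ((-β⁻¹) • l) y (by simp [QuadraticMap.polar_smul_right, hul])
      (by simp [QuadraticMap.polar_smul_right, hwl])
    have hly : polar (⇑Q) l y = 2 * Q l := by
      conv_lhs => rw [hyl]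
      simp [QuadraticMap.polar_add_right, QuadraticMap.polar_smul_right, polar_self',
        polar_comm' Q l u, hul, polar_comm' Q l w, hwl]
    have y₁ : act Q g₁ y = (Q y / β) • u + β • w := by
      rw [e₁, eichlerFun, QuadraticMap.polar_smul_left, map_smul', hly, ← hβdef, hQy]
      conv_lhs => arg 1; arg 1; arg 1; rw [hyl]
      simp only [smul_eq_mul]
      match_scalars <;> first | ring1 | (field_simp; ring1) | (field_simp; simp)
    obtain ⟨s, t, hm⟩ := exists_norm_in_plane h2 ha hb hab (Q y / β / β)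
    obtain ⟨m, hmdef⟩ : ∃ r', r' = s • a + t • b := ⟨_, rfl⟩
    have hum : polar (⇑Q) u m = 0 := by
      simp [hmdef, QuadraticMap.polar_add_right, QuadraticMap.polar_smul_right, hua, hub]
    have hwm : polar (⇑Q) w m = 0 := by
      simp [hmdef, QuadraticMap.polar_add_right, QuadraticMap.polar_smul_right, hwa, hwb]
    have hm' : Q m = Q y / β / β := by rw [hmdef]; exact hm
    have hQm : Q m ≠ 0 := by rw [hm']; exact div_ne_zero (div_ne_zero hy hβ) hβ
    obtain ⟨g₂, hg₂, e₂⟩ := EU m (act Q g₁ y) hum hwm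
    have y₂ : act Q g₂ (act Q g₁ y) = β • w + β • m := by
      rw [e₂, y₁, eichlerFun, hm']
      simp only [QuadraticMap.polar_add_right, QuadraticMap.polar_smul_right, polar_self', hu, huw,
        polar_comm' Q m u, hum, polar_comm' Q m w, hwm, smul_eq_mul]
      match_scalars <;> field_simp <;> ring
    obtain ⟨r, hr⟩ : ∃ r', r' = (1 - Q y / β) / (2 * Q m) := ⟨_, rfl⟩
    obtain ⟨g₃, hg₃, e₃⟩ := EW (r • m) (act Q g₂ (act Q g₁ y))
      (by simp [QuadraticMap.polar_smul_right, hum]) (by simp [QuadraticMap.polar_smul_right, hwm])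
    have y₃ : act Q g₃ (act Q g₂ (act Q g₁ y)) = Q y • w + β • m := by
      rw [e₃, y₂, eichlerFun]
      simp only [QuadraticMap.polar_add_right, QuadraticMap.polar_smul_right,
        QuadraticMap.polar_smul_left, polar_self', hw, polar_comm' Q m w, hwm, smul_eq_mul]
      match_scalars
      · rw [hr]; field_simp; ring
      · ring
    obtain ⟨g₄, hg₄, e₄⟩ := EU ((-β / Q y) • m) (Q y • w + β • m)
      (by simp [QuadraticMap.polar_smul_right, hum]) (by simp [QuadraticMap.polar_smul_right, hwm])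
    refine ⟨g₄ * (g₃ * (g₂ * g₁)),
      mul_mem hg₄ (mul_mem hg₃ (mul_mem hg₂ hg₁)), ?_⟩
    rw [act_mul, act_mul, act_mul, y₃, e₄, eichlerFun]
    simp only [QuadraticMap.polar_add_right, QuadraticMap.polar_smul_right,
      QuadraticMap.polar_smul_left, polar_self', map_smul', huw, hum, polar_comm' Q m w, hwm,
      smul_eq_mul]
    rw [hm']
    match_scalars <;> field_simp <;> ring
  by_cases hβ : polar (⇑Q) u x ≠ 0
  · exact main x hx hβ
  rw [not_not] at hβ
  obtain ⟨α, hα⟩ : ∃ r', r' = polar (⇑Q) w x := ⟨_, rfl⟩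
  obtain ⟨l, hl⟩ : ∃ r', r' = x - α • u := ⟨_, rfl⟩
  have hul : polar (⇑Q) u l = 0 := by
    simp [hl, QuadraticMap.polar_sub_right, QuadraticMap.polar_smul_right, polar_self', hu, hβ]
  have hwl : polar (⇑Q) w l = 0 := by
    simp [hl, QuadraticMap.polar_sub_right, QuadraticMap.polar_smul_right, hwu, ← hα]
  have hQl : Q l = Q x := by
    rw [hl, map_sub', map_smul', QuadraticMap.polar_smul_right, polar_comm' Q x u, hβ, hu]
    simp
  have hlx : polar (⇑Q) l x = 2 * Q x := by
    rw [hl, QuadraticMap.polar_sub_left, polar_self', QuadraticMap.polar_smul_left, hβ]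
    simp
  obtain ⟨m, hum, hwm, hne⟩ : ∃ m, polar (⇑Q) u m = 0 ∧ polar (⇑Q) w m = 0 ∧
      polar (⇑Q) m x + Q m * α ≠ 0 := by
    by_contra h
    have h₁ : polar (⇑Q) l x + Q l * α = 0 := by
      by_contra h'; exact h ⟨l, hul, hwl, h'⟩
    have h₂ : polar (⇑Q) (-l) x + Q (-l) * α = 0 := by
      by_contra h'; exact h ⟨-l, by simp [hul], by simp [hwl], h'⟩
    rw [QuadraticMap.polar_neg_left, QuadraticMap.map_neg, hlx] at h₂
    rw [hlx] at h₁
    exact mul_ne_zero h2 (mul_ne_zero h2 hx) (by linear_combination h₁ - h₂)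
  obtain ⟨g₀, hg₀, e₀⟩ := EW m x hum hwm
  have hne' : polar (⇑Q) u (act Q g₀ x) ≠ 0 := by
    rw [e₀, eichlerFun, ← hα]
    simp only [QuadraticMap.polar_sub_right, QuadraticMap.polar_add_right,
      QuadraticMap.polar_smul_right, huw, hum, hβ, smul_eq_mul]
    intro h
    exact hne (by linear_combination -h)
  obtain ⟨g, hg, e⟩ := main (act Q g₀ x) (by rwa [Q_act]) hne'
  exact ⟨g * g₀, mul_mem hg hg₀, by rw [act_mul, e, Q_act]⟩

include h2 hQ hn in
theorem exists_hyperbolic_pair :
    ∃ u w : ι → F, Q u = 0 ∧ Q w = 0 ∧ polar (⇑Q) u w = 1 := by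
  obtain ⟨a, ha, -⟩ := exists_ortho_anisotropic h2 hQ (k := 0) ![] (fun i => i.elim0)
    (fun i => i.elim0) (by omega)
  obtain ⟨b, hb, hbo⟩ := exists_ortho_anisotropic h2 hQ ![a] (fun i => by fin_cases i; simp [ha])
    (fun i j hij => absurd (Subsingleton.elim i j) hij) (by omega)
  have hab : polar (⇑Q) a b = 0 := hbo 0
  obtain ⟨c, hc, hco⟩ := exists_ortho_anisotropic h2 hQ ![a, b]
    (fun i => by fin_cases i <;> simp [ha, hb])
    (fun i j hij => by fin_cases i <;> fin_cases j <;> simp_all [polar_comm' Q b a]) (by omega)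
  have hac : polar (⇑Q) a c = 0 := hco 0
  have hbc : polar (⇑Q) b c = 0 := hco 1
  obtain ⟨s, t, hst⟩ := exists_norm_in_plane h2 ha hb hab (-Q c)
  obtain ⟨e, he⟩ : ∃ r', r' = s • a + t • b + c := ⟨_, rfl⟩
  have he0 : Q e = 0 := by
    rw [he, map_add', hst]
    simp [QuadraticMap.polar_add_left, QuadraticMap.polar_smul_left, hac, hbc]
  have hce : polar (⇑Q) e c = 2 * Q c := by
    simp [he, QuadraticMap.polar_add_left, QuadraticMap.polar_smul_left, hac, hbc, polar_self']
  obtain ⟨y, hy⟩ : ∃ r', r' = (2 * Q c)⁻¹ • c := ⟨_, rfl⟩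
  have hey : polar (⇑Q) e y = 1 := by
    rw [hy, QuadraticMap.polar_smul_right, hce, smul_eq_mul, inv_mul_cancel₀ (mul_ne_zero h2 hc)]
  refine ⟨e, y - Q y • e, he0, ?_, ?_⟩
  · rw [map_sub', map_smul', QuadraticMap.polar_smul_right, polar_comm' Q y e, hey, he0]
    simp
  · simp [QuadraticMap.polar_sub_right, QuadraticMap.polar_smul_right, hey, polar_self', he0]

include h2 hQ hn in
/-- For `n ≥ 5` and `q` odd, `Ω` is generated by the Siegel transformations. -/
theorem omega_eq_closure_siegelSet : Omega F ⇑Q = Subgroup.closure (siegelSet Q) := by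
  set S := Subgroup.closure (siegelSet Q) with hS
  apply le_antisymm
  · haveI hN : S.Normal := closure_siegelSet_normal
    obtain ⟨u, w, hu, hw, huw⟩ := exists_hyperbolic_pair h2 hQ hn
    set π := QuotientGroup.mk' S with hπ
    have hsame : ∀ {x y : ι → F} (hx : Q x ≠ 0) (hy : Q y ≠ 0), Q x = Q y →
        π (reflection hx) = π (reflection hy) := by
      intro x y hx hy hxy
      obtain ⟨g, hg, egx⟩ := siegel_normal_form h2 hQ hn hu hw huw hx
      obtain ⟨k, hk, eky⟩ := siegel_normal_form h2 hQ hn hu hw huw hy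
      have e : act Q (k⁻¹ * g) x = y := by rw [act_mul, egx, hxy, ← eky, act_inv_act]
      have hc := conj_reflection (k⁻¹ * g) hx
      rw [reflection_congr e] at hc
      rw [← hc, map_mul, map_mul, map_inv, show π (k⁻¹ * g) = 1 from
        (QuotientGroup.eq_one_iff _).mpr (mul_mem (inv_mem hk) hg)]
      simp
    have hcen : ∀ (g : ↥(isometryGroup F ⇑Q)) {x : ι → F} (hx : Q x ≠ 0),
        π g * π (reflection hx) = π (reflection hx) * π g := by
      intro g x hx
      have hgx : Q (act Q g x) ≠ 0 := by rwa [Q_act]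
      rw [← mul_inv_eq_iff_eq_mul, ← map_inv, ← map_mul, ← map_mul, conj_reflection g hx]
      exact hsame hgx hx (Q_act Q g x)
    have hcomm : ∀ g h : ↥(isometryGroup F ⇑Q), π g * π h = π h * π g := by
      intro g h
      have hh : h ∈ Subgroup.closure (reflections (Q := Q)) := by
        rw [closure_reflections h2 hQ]; trivial
      induction hh using Subgroup.closure_induction with
      | mem x hx => obtain ⟨v, hv, rfl⟩ := hx; exact hcen g hv
      | one => simp
      | mul x y _ _ hx hy => rw [map_mul, ← mul_assoc, hx, mul_assoc, hy, mul_assoc]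
      | inv x _ hx => rw [map_inv]; exact (Commute.inv_right hx)
    rw [Omega, commutator_def, Subgroup.commutator_le]
    intro g _ h _
    rw [← QuotientGroup.eq_one_iff]
    show π ⁅g, h⁆ = 1
    rw [map_commutatorElement, commutatorElement_eq_one_iff_mul_comm]
    exact hcomm g h
  · rw [hS, Subgroup.closure_le]
    rintro g ⟨u, v, c, hu, hv, huv, hg⟩
    obtain ⟨a, b, rfl⟩ := siegel_mem_commutatorSet h2 hQ hu hv huv c g hg
    exact Subgroup.commutator_mem_commutator (Subgroup.mem_top a) (Subgroup.mem_top b)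

end Generation

end CfsgLib.OrthSpinor
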