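import Cfsg.Agent.Lib.Orth.Siegel

/-!
The three subgroups of index two of an orthogonal group in odd characteristic, and the subgroup
generated by the reflections of one norm class.
-/

set_option autoImplicit false
set_option linter.unusedSectionVars false

namespace CfsgLib.OrthSpinor

open Matrix Cfsg
open QuadraticMap (polar)

variable {ι : Type} [Fintype ι] [DecidableEq ι] {F : Type*} [Field F]
variable {Q : QuadraticForm F (ι → F)}

theorem index_ker_eq_two {G : Type*} [Group G] (φ : G →* ℤˣ) {g : G} (hg : φ g = -1) :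
    φ.ker.index = 2 := by
  have hs : Function.Surjective φ := by
    intro z
    rcases Int.units_eq_one_or z with rfl | rfl
    · exact ⟨1, map_one φ⟩
    · exact ⟨g, hg⟩
  rw [Subgroup.index_ker, MonoidHom.range_eq_top.mpr hs, Subgroup.card_top]
  simp

/-- An orthogonal family of non-singular vectors has at most `card ι` members. -/
theorem le_card_of_orthogonal (h2 : (2 : F) ≠ 0) {k : ℕ} (p : Fin k → ι → F)
    (hp : ∀ i, Q (p i) ≠ 0) (hpp : ∀ i j, i ≠ j → polar (⇑Q) (p i) (p j) = 0) :
    k ≤ Fintype.card ι := by
  have hli : LinearIndependent F p := by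
    rw [Fintype.linearIndependent_iff]
    intro c hc i
    have h := congrArg (QuadraticMap.polarBilin Q (p i)) hc
    rw [map_sum, map_zero, Finset.sum_eq_single i] at h
    · rw [map_smul, QuadraticMap.polarBilin_apply_apply, polar_self', smul_eq_mul] at h
      exact (mul_eq_zero.mp h).resolve_right (mul_ne_zero h2 (hp i))
    · intro j _ hji
      rw [map_smul, QuadraticMap.polarBilin_apply_apply, hpp i j hji.symm, smul_zero]
    · simp
  simpa using hli.fintype_card_le_finrank

section Plane

variable (h2 : (2 : F) ≠ 0) (hQ : (QuadraticMap.polarBilin Q).Nondegenerate)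
variable {a b : ι → F} (ha : Q a ≠ 0) (hb : Q b ≠ 0) (hab : polar (⇑Q) a b = 0)

include h2 ha hb hab in
theorem plane_decomp (x : ι → F) :
    polar (⇑Q) a (x - ((polar (⇑Q) a x / (2 * Q a)) • a + (polar (⇑Q) b x / (2 * Q b)) • b)) = 0 ∧
    polar (⇑Q) b (x - ((polar (⇑Q) a x / (2 * Q a)) • a + (polar (⇑Q) b x / (2 * Q b)) • b)) = 0 := by
  constructor
  · rw [QuadraticMap.polar_sub_right, QuadraticMap.polar_add_right, QuadraticMap.polar_smul_right,
      QuadraticMap.polar_smul_right, polar_self', hab, smul_eq_mul, smul_zero, add_zero,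
      div_mul_cancel₀ _ (mul_ne_zero h2 ha), sub_self]
  · rw [QuadraticMap.polar_sub_right, QuadraticMap.polar_add_right, QuadraticMap.polar_smul_right,
      QuadraticMap.polar_smul_right, polar_self', polar_comm' Q b a, hab,
      smul_zero, zero_add, smul_eq_mul, div_mul_cancel₀ _ (mul_ne_zero h2 hb), sub_self]

include h2 hQ ha hb hab in
/-- A vector orthogonal to everything orthogonal to `a, b` lies in their span. -/
theorem mem_plane {v : ι → F}
    (hv : ∀ z, polar (⇑Q) a z = 0 → polar (⇑Q) b z = 0 → polar (⇑Q) v z = 0) :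
    ∃ α β : F, v = α • a + β • b := by
  refine ⟨polar (⇑Q) a v / (2 * Q a), polar (⇑Q) b v / (2 * Q b), ?_⟩
  rw [← sub_eq_zero]
  apply eq_zero_of_polar hQ
  intro x
  obtain ⟨e₁, e₂⟩ := plane_decomp h2 ha hb hab v
  obtain ⟨f₁, f₂⟩ := plane_decomp h2 ha hb hab x
  obtain ⟨w, hw⟩ : ∃ w, w = v - ((polar (⇑Q) a v / (2 * Q a)) • a +
      (polar (⇑Q) b v / (2 * Q b)) • b) := ⟨_, rfl⟩
  obtain ⟨y, hy⟩ : ∃ y, y = x - ((polar (⇑Q) a x / (2 * Q a)) • a +
      (polar (⇑Q) b x / (2 * Q b)) • b) := ⟨_, rfl⟩
  rw [← hw] at e₁ e₂ ⊢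
  rw [← hy] at f₁ f₂
  have h₁ : polar (⇑Q) w y = 0 := by
    rw [hw, QuadraticMap.polar_sub_left, QuadraticMap.polar_add_left, QuadraticMap.polar_smul_left,
      QuadraticMap.polar_smul_left, f₁, f₂, hv y f₁ f₂]
    simp
  have hx : x = y + ((polar (⇑Q) a x / (2 * Q a)) • a + (polar (⇑Q) b x / (2 * Q b)) • b) := by
    rw [hy, sub_add_cancel]
  rw [hx, QuadraticMap.polar_add_right, QuadraticMap.polar_add_right, QuadraticMap.polar_smul_right,
    QuadraticMap.polar_smul_right, h₁, polar_comm' Q w a, e₁, polar_comm' Q w b, e₂]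
  simp

include h2 hQ ha hb hab in
theorem fix_plane_cases (g : ↥(isometryGroup F ⇑Q))
    (hfix : ∀ z, polar (⇑Q) a z = 0 → polar (⇑Q) b z = 0 → act Q g z = z)
    (hga : act Q g a = a) : g = 1 ∨ g = reflection hb := by
  obtain ⟨α, β, hv⟩ := mem_plane h2 hQ ha hb hab (v := act Q g b) (fun z hz hz' => by
    rw [← hfix z hz hz', polar_act, hz'])
  have hα : α = 0 := by
    have h : polar (⇑Q) (act Q g a) (act Q g b) = 0 := by rw [polar_act, hab]
    rw [hga, hv, QuadraticMap.polar_add_right, QuadraticMap.polar_smul_right,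
      QuadraticMap.polar_smul_right, polar_self', hab, smul_eq_mul, smul_zero, add_zero] at h
    exact (mul_eq_zero.mp h).resolve_right (mul_ne_zero h2 ha)
  subst hα
  rw [zero_smul, zero_add] at hv
  have hβ : β * β = 1 := by
    have h : Q (act Q g b) = Q b := Q_act Q g b
    rw [hv, map_smul'] at h
    exact mul_right_cancel₀ hb (by rw [h, one_mul])
  have hfixb : ∀ x, polar (⇑Q) b x = 0 → act Q g x = x := by
    intro x hx
    obtain ⟨e₁, e₂⟩ := plane_decomp h2 ha hb hab x
    have h := hfix _ e₁ e₂
    rw [hx, zero_div, zero_smul, add_zero, act_sub, act_smul, hga] at h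
    exact sub_left_injective h
  rcases mul_self_eq_one_iff.mp hβ with rfl | rfl
  · left
    exact eq_one_of_fix_ortho g hb h2 hfixb (by rw [hv, one_smul])
  · right
    have h : reflection hb * g = 1 := by
      refine eq_one_of_fix_ortho _ hb h2 (fun x hx => ?_) ?_
      · rw [act_mul, hfixb x hx, act_reflection_of_ortho hb hx]
      · rw [act_mul, hv, neg_smul, one_smul, act_neg, act_reflection_self, neg_neg]
    rw [eq_inv_of_mul_eq_one_right h, reflection_inv]

include h2 hQ ha hb hab in
/-- An isometry of determinant `-1` fixing the orthogonal of a plane is a reflection. -/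
theorem exists_eq_reflection (g : ↥(isometryGroup F ⇑Q))
    (hfix : ∀ z, polar (⇑Q) a z = 0 → polar (⇑Q) b z = 0 → act Q g z = z)
    (hdet : detHom g = -1) : ∃ (w : ι → F) (hw : Q w ≠ 0), g = reflection hw := by
  have hne : (-1 : Fˣ) ≠ 1 := fun h => h2 (by
    have := congrArg Units.val h
    rw [Units.val_neg, Units.val_one] at this
    linear_combination -this)
  by_cases hga : act Q g a = a
  · rcases fix_plane_cases h2 hQ ha hb hab g hfix hga with rfl | h
    · rw [map_one] at hdet
      exact absurd hdet.symm hne
    · exact ⟨b, hb, h⟩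
  obtain ⟨α, β, hv⟩ := mem_plane h2 hQ ha hb hab (v := act Q g a) (fun z hz hz' => by
    rw [← hfix z hz hz', polar_act, hz])
  have hd : Q (act Q g a - a) ≠ 0 := by
    intro h
    have hQv : Q (act Q g a) = Q a := Q_act Q g a
    rw [map_sub', hQv, hv] at h
    rw [QuadraticMap.polar_add_left, QuadraticMap.polar_smul_left, QuadraticMap.polar_smul_left,
      polar_self', polar_comm' Q b a, hab, smul_eq_mul, smul_zero, add_zero] at h
    have hα : α = 1 := by
      have : (α - 1) * (2 * Q a) = 0 := by linear_combination -h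
      exact sub_eq_zero.mp ((mul_eq_zero.mp this).resolve_right (mul_ne_zero h2 ha))
    subst hα
    rw [hv, one_smul, map_add', map_smul', QuadraticMap.polar_smul_right, hab, smul_zero,
      add_zero] at hQv
    have hβ : β = 0 := by
      have h' : β * β * Q b = 0 := by linear_combination hQv
      simpa [hb] using h'
    exact hga (by rw [hv, hβ, one_smul, zero_smul, add_zero])
  have hort : ∀ z, polar (⇑Q) a z = 0 → polar (⇑Q) b z = 0 →
      polar (⇑Q) (act Q g a - a) z = 0 := by
    intro z hz hz'
    rw [hv, QuadraticMap.polar_sub_left, QuadraticMap.polar_add_left, QuadraticMap.polar_smul_left,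
      QuadraticMap.polar_smul_left, hz, hz']
    simp
  refine ⟨_, hd, ?_⟩
  rcases fix_plane_cases h2 hQ ha hb hab (reflection hd * g) (fun z hz hz' => by
    rw [act_mul, hfix z hz hz', act_reflection_of_ortho hd (hort z hz hz')])
    (by rw [act_mul]; exact reflection_sub_apply (Q_act Q g a) hd) with h | h
  · exact (eq_inv_of_mul_eq_one_right h).trans (reflection_inv hd)
  · exfalso
    have := congrArg detHom h
    rw [map_mul, detHom_reflection, detHom_reflection, hdet, neg_mul_neg, one_mul] at this
    exact hne this.symm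

end Plane

section Classes

variable [Fintype F] (h2 : (2 : F) ≠ 0) (hQ : (QuadraticMap.polarBilin Q).Nondegenerate)

include h2 hQ in
/-- An orthogonal group in odd characteristic, `n ≥ 2`, has exactly three subgroups of index two. -/
theorem card_index_two (hn : 2 ≤ Fintype.card ι) :
    Nat.card {H : Subgroup ↥(isometryGroup F ⇑Q) // H.index = 2} = 3 := by
  classical
  obtain ⟨ν, hν, hns⟩ := exists_nonsquare' (F := F) h2
  obtain ⟨x, hx⟩ := exists_norm h2 hQ hn 1
  obtain ⟨y, hy⟩ := exists_norm h2 hQ hn ν
  have hxn : Q x ≠ 0 := hx ▸ one_ne_zero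
  have hyn : Q y ≠ 0 := hy ▸ hν
  set A := theta (Q := Q) 1 with hA
  set B := theta (Q := Q) ν with hB
  have hAx : A (reflection hxn) = -1 :=
    theta_reflection_of_square h2 one_ne_zero hxn (by simp [hx])
  have hAy : A (reflection hyn) = 1 :=
    theta_reflection_of_nonsquare h2 one_ne_zero hyn (by simpa [hy] using hns)
  have hBx : B (reflection hxn) = 1 :=
    theta_reflection_of_nonsquare h2 hν hxn (by simpa [hx] using hns)
  have hBy : B (reflection hyn) = -1 :=
    theta_reflection_of_square h2 hν hyn ⟨ν, by rw [hy]⟩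
  have key : ∀ {φ ψ : ↥(isometryGroup F ⇑Q) →* ℤˣ}, φ (reflection hxn) = ψ (reflection hxn) →
      φ (reflection hyn) = ψ (reflection hyn) → φ = ψ := by
    intro φ ψ h₁ h₂
    refine hom_ext h2 hQ fun v hv => ?_
    by_cases h : IsSquare (Q v)
    · have h' : IsSquare (Q v * Q x) := by rwa [hx, mul_one]
      rw [hom_comm_eq_of_class h2 φ hv hxn h', hom_comm_eq_of_class h2 ψ hv hxn h', h₁]
    · have h' : IsSquare (Q v * Q y) := isSquare_mul_of_not h (by rwa [hy])
      rw [hom_comm_eq_of_class h2 φ hv hyn h', hom_comm_eq_of_class h2 ψ hv hyn h', h₂]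
  have hset : {H : Subgroup ↥(isometryGroup F ⇑Q) | H.index = 2} =
      {A.ker, B.ker, (A * B).ker} := by
    ext H
    simp only [Set.mem_ofPred_eq, Set.mem_insert_iff, Set.mem_singleton_iff]
    constructor
    · intro hH
      let χ : ↥(isometryGroup F ⇑Q) →* ℤˣ := MonoidHom.mk' (fun g => if g ∈ H then 1 else -1) (by
        intro g k
        have := Subgroup.mul_mem_iff_of_index_two hH (a := g) (b := k)
        by_cases hg : g ∈ H <;> by_cases hk : k ∈ H <;> simp_all)
      have hker : χ.ker = H := by
        ext g
        rw [MonoidHom.mem_ker]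
        by_cases hg : g ∈ H <;> simp [χ, hg]
      rcases Int.units_eq_one_or (χ (reflection hxn)) with h₁ | h₁ <;>
        rcases Int.units_eq_one_or (χ (reflection hyn)) with h₂ | h₂
      · exfalso
        have : χ = 1 := key (by simpa using h₁) (by simpa using h₂)
        rw [this, MonoidHom.ker_one] at hker
        rw [← hker, Subgroup.index_top] at hH
        exact absurd hH (by norm_num)
      · exact Or.inr (Or.inl (by rw [← hker, key (h₁.trans hBx.symm) (h₂.trans hBy.symm)]))
      · exact Or.inl (by rw [← hker, key (h₁.trans hAx.symm) (h₂.trans hAy.symm)])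
      · refine Or.inr (Or.inr ?_)
        have hAB : χ = A * B := key
          (by rw [h₁, MonoidHom.mul_apply, hAx, hBx, mul_one])
          (by rw [h₂, MonoidHom.mul_apply, hAy, hBy, one_mul])
        rw [← hker, hAB]
    · rintro (rfl | rfl | rfl)
      · exact index_ker_eq_two A hAx
      · exact index_ker_eq_two B hBy
      · exact index_ker_eq_two (A * B) (g := reflection hxn)
          (by rw [MonoidHom.mul_apply, hAx, hBx, mul_one])
  have hne₁ : A.ker ≠ B.ker := fun h => by
    have : reflection hyn ∈ A.ker := hAy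
    rw [h, MonoidHom.mem_ker, hBy] at this
    exact absurd this (by decide)
  have hne₂ : A.ker ≠ (A * B).ker := fun h => by
    have : reflection hyn ∈ A.ker := hAy
    rw [h, MonoidHom.mem_ker, MonoidHom.mul_apply, hAy, hBy, one_mul] at this
    exact absurd this (by decide)
  have hne₃ : B.ker ≠ (A * B).ker := fun h => by
    have : reflection hxn ∈ B.ker := hBx
    rw [h, MonoidHom.mem_ker, MonoidHom.mul_apply, hAx, hBx, mul_one] at this
    exact absurd this (by decide)
  show Nat.card ({H : Subgroup ↥(isometryGroup F ⇑Q) | H.index = 2} : Set _) = 3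
  rw [Nat.card_coe_set_eq, hset]
  exact Set.ncard_eq_three.mpr ⟨_, _, _, hne₁, hne₂, hne₃, rfl⟩

variable (Q) in
/-- The reflections whose norm lies in the square class of `c`. -/
def classReflections (c : F) : Set ↥(isometryGroup F ⇑Q) :=
  {g | ∃ (v : ι → F) (t : F), t ≠ 0 ∧ Q v = c * t ^ 2 ∧
    ((g : Matrix.GeneralLinearGroup ι F) : Matrix ι ι F) = reflectionMatrix ⇑Q v}

theorem closure_classReflections_normal {c : F} (hc : c ≠ 0) :
    (Subgroup.closure (classReflections Q c)).Normal := by
  refine ⟨fun n hn g => ?_⟩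
  induction hn using Subgroup.closure_induction with
  | mem x hx =>
    obtain ⟨v, t, ht, hv, hx⟩ := hx
    have hvn : Q v ≠ 0 := hv ▸ mul_ne_zero hc (pow_ne_zero 2 ht)
    have hxr : x = reflection hvn := eq_of_matrix Q hx
    subst hxr
    rw [conj_reflection]
    exact Subgroup.subset_closure ⟨act Q g v, t, ht, by rw [Q_act, hv], rfl⟩
  | one => simp
  | mul x y _ _ hx hy => simpa using Subgroup.mul_mem _ hx hy
  | inv x _ hx => simpa [mul_assoc] using Subgroup.inv_mem _ hx

include h2 hQ in
/-- The reflections of one norm class generate a subgroup of index two, unless `q = 3` and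
`n = 3, 4`. -/
theorem index_closure_class_of {n : ℕ} (hι : Fintype.card ι = n) (hn : 2 ≤ n)
    (hsmall : Fintype.card F = 3 → 3 ≤ n → 5 ≤ n) {c : F} (hc : c ≠ 0) :
    (Subgroup.closure (classReflections Q c)).index = 2 := by
  classical
  obtain ⟨ν, hν, hns⟩ := exists_nonsquare' (F := F) h2
  have hd : c * ν ≠ 0 := mul_ne_zero hc hν
  set R := Subgroup.closure (classReflections Q c) with hR
  haveI hN : R.Normal := closure_classReflections_normal hc
  set θ := theta (Q := Q) (c * ν) with hθ
  have hsq : ∀ {v : ι → F}, Q v ≠ 0 → IsSquare (c * Q v) → ∃ t : F, t ≠ 0 ∧ Q v = c * t ^ 2 := by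
    rintro v hv ⟨s, hs⟩
    have hs0 : s ≠ 0 := by rintro rfl; exact mul_ne_zero hc hv (by simpa using hs)
    exact ⟨s / c, div_ne_zero hs0 hc, by field_simp; linear_combination hs⟩
  have hclass : ∀ {v : ι → F} (hv : Q v ≠ 0), ¬ IsSquare (c * ν * Q v) → reflection hv ∈ R := by
    intro v hv h
    have h' : IsSquare (c * Q v) := by
      by_contra h'
      apply h
      rw [show c * ν * Q v = (c * Q v) * ν by ring]
      exact isSquare_mul_of_not h' hns
    obtain ⟨t, ht, htv⟩ := hsq hv h'
    exact Subgroup.subset_closure ⟨v, t, ht, htv, rfl⟩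
  -- two non-singular vectors of the other class spanning a non-degenerate plane
  have hplane : ∀ {y z : ι → F} (hy : Q y ≠ 0) (hz : Q z ≠ 0), IsSquare (c * ν * Q y) →
      IsSquare (c * ν * Q z) → polar (⇑Q) y z * polar (⇑Q) y z ≠ 4 * Q y * Q z →
      reflection hy * reflection hz ∈ R := by
    intro y z hy hz hys hzs hnd
    obtain ⟨b, hb'⟩ : ∃ b, b = z - (polar (⇑Q) y z / (2 * Q y)) • y := ⟨_, rfl⟩
    have hyb : polar (⇑Q) y b = 0 := by
      rw [hb', QuadraticMap.polar_sub_right, QuadraticMap.polar_smul_right, polar_self', smul_eq_mul,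
        div_mul_cancel₀ _ (mul_ne_zero h2 hy), sub_self]
    have hb : Q b ≠ 0 := by
      rw [hb', map_sub', map_smul', QuadraticMap.polar_smul_right, polar_comm' Q z y, smul_eq_mul]
      intro h
      apply hnd
      field_simp at h
      linear_combination -h
    obtain ⟨s, t, hst⟩ := exists_norm_in_plane h2 hy hb hyb c
    obtain ⟨x, hx⟩ : ∃ x, x = s • y + t • b := ⟨_, rfl⟩
    rw [← hx] at hst
    have hxn : Q x ≠ 0 := hst ▸ hc
    obtain ⟨w, hw, hg⟩ := exists_eq_reflection h2 hQ hy hb hyb
      (reflection hxn * (reflection hy * reflection hz)) (fun p hp hp' => by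
        have hpz : polar (⇑Q) z p = 0 := by
          have : polar (⇑Q) b p = 0 := hp'
          rw [hb', QuadraticMap.polar_sub_left, QuadraticMap.polar_smul_left, hp] at this
          simpa using this
        rw [act_mul, act_mul, act_reflection_of_ortho hz hpz, act_reflection_of_ortho hy hp,
          act_reflection_of_ortho hxn]
        rw [hx, QuadraticMap.polar_add_left, QuadraticMap.polar_smul_left,
          QuadraticMap.polar_smul_left, hp, hp']
        simp)
      (by simp [map_mul, detHom_reflection])
    have hθx : θ (reflection hxn) = 1 := theta_reflection_of_nonsquare h2 hd hxn (by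
      rw [hst]
      rintro ⟨r, hr⟩
      exact hns ⟨r / c, by field_simp; linear_combination hr⟩)
    have hθw : θ (reflection hw) = 1 := by
      rw [← hg, map_mul, map_mul, hθx, hθ, theta_reflection_of_square h2 hd hy hys,
        theta_reflection_of_square h2 hd hz hzs]
      simp
    have hwR : reflection hw ∈ R := hclass hw fun h => by
      rw [hθ, theta_reflection_of_square h2 hd hw h] at hθw
      exact absurd hθw (by decide)
    have hxR : reflection hxn ∈ R :=
      Subgroup.subset_closure ⟨x, 1, one_ne_zero, by simp [hst], rfl⟩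
    have : reflection hy * reflection hz = reflection hxn * reflection hw := by
      rw [← hg, ← mul_assoc (reflection hxn), reflection_mul_self, one_mul]
    rw [this]
    exact mul_mem hxR hwR
  have hpair : ∀ {y z : ι → F} (hy : Q y ≠ 0) (hz : Q z ≠ 0), IsSquare (c * ν * Q y) →
      IsSquare (c * ν * Q z) → reflection hy * reflection hz ∈ R := by
    intro y z hy hz hys hzs
    by_cases hnd : polar (⇑Q) y z * polar (⇑Q) y z ≠ 4 * Q y * Q z
    · exact hplane hy hz hys hzs hnd
    rw [not_not] at hnd
    obtain ⟨α, hα⟩ : ∃ α, α = polar (⇑Q) y z / (2 * Q y) := ⟨_, rfl⟩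
    obtain ⟨e, he⟩ : ∃ e, e = z - α • y := ⟨_, rfl⟩
    have hye : polar (⇑Q) y e = 0 := by
      rw [he, QuadraticMap.polar_sub_right, QuadraticMap.polar_smul_right, polar_self', smul_eq_mul,
        hα, div_mul_cancel₀ _ (mul_ne_zero h2 hy), sub_self]
    have hQe : Q e = 0 := by
      rw [he, map_sub', map_smul', QuadraticMap.polar_smul_right, polar_comm' Q z y, smul_eq_mul, hα]
      field_simp
      linear_combination -hnd
    have hα0 : α ≠ 0 := by
      rw [hα]
      refine div_ne_zero (fun h => ?_) (mul_ne_zero h2 hy)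
      rw [h, zero_mul] at hnd
      exact mul_ne_zero (mul_ne_zero (by
        rw [show (4 : F) = 2 * 2 by norm_num]; exact mul_ne_zero h2 h2) hy) hz hnd.symm
    by_cases he0 : e = 0
    · have hzy : z = α • y := sub_eq_zero.mp (he ▸ he0)
      rw [show reflection hz = reflection hy from
        (reflection_congr hzy hz).trans (reflection_smul hy hα0), reflection_mul_self]
      exact one_mem R
    -- a hyperbolic partner of `e` orthogonal to `y`
    obtain ⟨u, hu⟩ : ∃ u, polar (⇑Q) e u ≠ 0 := by
      by_contra h
      exact he0 (eq_zero_of_polar hQ fun u => by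
        by_contra hu
        exact h ⟨u, hu⟩)
    obtain ⟨u₁, hu₁⟩ : ∃ u₁, u₁ = (polar (⇑Q) e u)⁻¹ •
        (u - (polar (⇑Q) y u / (2 * Q y)) • y) := ⟨_, rfl⟩
    have hyu : polar (⇑Q) y u₁ = 0 := by
      rw [hu₁, QuadraticMap.polar_smul_right, QuadraticMap.polar_sub_right,
        QuadraticMap.polar_smul_right, polar_self', smul_eq_mul, smul_eq_mul,
        div_mul_cancel₀ _ (mul_ne_zero h2 hy), sub_self, mul_zero]
    have heu : polar (⇑Q) e u₁ = 1 := by
      rw [hu₁, QuadraticMap.polar_smul_right, QuadraticMap.polar_sub_right,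
        QuadraticMap.polar_smul_right, polar_comm' Q e y, hye, smul_zero, sub_zero, smul_eq_mul,
        inv_mul_cancel₀ hu]
    obtain ⟨f, hf⟩ : ∃ f, f = u₁ - Q u₁ • e := ⟨_, rfl⟩
    have hyf : polar (⇑Q) y f = 0 := by
      simp [hf, QuadraticMap.polar_sub_right, QuadraticMap.polar_smul_right, hyu, hye]
    have hef : polar (⇑Q) e f = 1 := by
      simp [hf, QuadraticMap.polar_sub_right, QuadraticMap.polar_smul_right, heu, polar_self', hQe]
    have hQf : Q f = 0 := by
      rw [hf, map_sub', map_smul', QuadraticMap.polar_smul_right, polar_comm' Q u₁ e, heu, hQe]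
      simp
    have hp : Q (e + f) ≠ 0 := by rw [map_add', hQe, hQf, hef]; simp
    have hm : Q (e - f) ≠ 0 := by rw [map_sub', hQe, hQf, hef]; simp
    have hpm : polar (⇑Q) (e + f) (e - f) = 0 := by
      simp [QuadraticMap.polar_add_left, QuadraticMap.polar_sub_right, polar_self', hQe, hQf, hef,
        polar_comm' Q f e]
    have hyp : polar (⇑Q) y (e + f) = 0 := by simp [QuadraticMap.polar_add_right, hye, hyf]
    have hym : polar (⇑Q) y (e - f) = 0 := by simp [QuadraticMap.polar_sub_right, hye, hyf]
    have horth : ∀ i j : Fin 3, i ≠ j →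
        polar (⇑Q) (![y, e + f, e - f] i) (![y, e + f, e - f] j) = 0 := by
      intro i j hij
      fin_cases i <;> fin_cases j <;>
        first
          | exact absurd rfl hij
          | assumption
          | exact (polar_comm' Q _ _).trans hyp
          | exact (polar_comm' Q _ _).trans hym
          | exact (polar_comm' Q _ _).trans hpm
    have hanis : ∀ i : Fin 3, Q (![y, e + f, e - f] i) ≠ 0 := fun i => by
      fin_cases i <;> assumption
    have h3 : 3 ≤ n := hι ▸ le_card_of_orthogonal h2 _ hanis horth
    -- it suffices to find a connecting vector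
    suffices hT : ∃ w, polar (⇑Q) y w = 0 ∧ Q w = Q y ∧
        polar (⇑Q) e w * polar (⇑Q) e w ≠ 4 * Q z * Q y by
      obtain ⟨w, hyw, hQw, hew⟩ := hT
      have hw : Q w ≠ 0 := hQw ▸ hy
      have hws : IsSquare (c * ν * Q w) := hQw ▸ hys
      have h1 := hplane hy hw hys hws (by
        rw [hyw, hQw, mul_zero]
        exact (mul_ne_zero (mul_ne_zero (by
          rw [show (4 : F) = 2 * 2 by norm_num]; exact mul_ne_zero h2 h2) hy) hy).symm)
      have hwz : polar (⇑Q) w z = polar (⇑Q) e w := by
        rw [show z = e + α • y by rw [he, sub_add_cancel], QuadraticMap.polar_add_right,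
          QuadraticMap.polar_smul_right, polar_comm' Q w y, hyw, polar_comm' Q w e]
        simp
      have h2' := hplane hw hz hws hzs (by
        rw [hwz, hQw]
        intro h
        exact hew (by rw [h]; ring))
      have : reflection hy * reflection hz =
          (reflection hy * reflection hw) * (reflection hw * reflection hz) := by
        rw [mul_assoc, ← mul_assoc (reflection hw) (reflection hw), reflection_mul_self, one_mul]
      rw [this]
      exact mul_mem h1 h2'
    have hQz : Q z = α * α * Q y := by
      rw [show z = e + α • y by rw [he, sub_add_cancel], map_add', map_smul',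
        QuadraticMap.polar_smul_right, polar_comm' Q e y, hye, hQe]
      simp
    by_cases hq : 3 < Fintype.card F
    · obtain ⟨β, hβ⟩ : ∃ β : F, β ∉ ({0, 2 * α * Q y, -(2 * α * Q y)} : Finset F) := by
        by_contra h
        have hall : (Finset.univ : Finset F) ⊆ {0, 2 * α * Q y, -(2 * α * Q y)} := fun x _ => by
          by_contra hx; exact h ⟨x, hx⟩
        have := (Finset.card_le_card hall).trans Finset.card_le_three
        rw [Finset.card_univ] at this
        omega
      simp only [Finset.mem_insert, Finset.mem_singleton, not_or] at hβ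
      obtain ⟨hβ0, hβ1, hβ2⟩ := hβ
      refine ⟨(Q y / β) • e + β • f, ?_, ?_, ?_⟩
      · simp [QuadraticMap.polar_add_right, QuadraticMap.polar_smul_right, hye, hyf]
      · rw [map_add', map_smul', map_smul', QuadraticMap.polar_smul_left,
          QuadraticMap.polar_smul_right, hQe, hQf, hef]
        simp only [smul_eq_mul]
        field_simp
        ring
      · have : polar (⇑Q) e ((Q y / β) • e + β • f) = β := by
          simp [QuadraticMap.polar_add_right, QuadraticMap.polar_smul_right, polar_self', hQe, hef]
        rw [this, hQz]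
        intro h
        have : (β - 2 * α * Q y) * (β + 2 * α * Q y) = 0 := by linear_combination h
        rcases mul_eq_zero.mp this with h' | h'
        · exact hβ1 (sub_eq_zero.mp h')
        · exact hβ2 (eq_neg_of_add_eq_zero_left h')
    · have hq3 : Fintype.card F = 3 := by
        have h1 : 1 < Fintype.card F := Fintype.one_lt_card
        have h2' : Fintype.card F ≠ 2 := fun h => h2 (by
          have := FiniteField.cast_card_eq_zero F
          rw [h] at this
          exact_mod_cast this)
        omega
      have h5 : 5 ≤ n := hsmall hq3 h3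
      obtain ⟨a, ha, hao⟩ := exists_ortho_anisotropic h2 hQ ![y, e + f, e - f] hanis horth
        (by omega)
      have hya : polar (⇑Q) y a = 0 := hao 0
      have hpa : polar (⇑Q) (e + f) a = 0 := hao 1
      have hma : polar (⇑Q) (e - f) a = 0 := hao 2
      obtain ⟨b, hb, hbo⟩ := exists_ortho_anisotropic h2 hQ ![y, e + f, e - f, a]
        (fun i => by fin_cases i <;> assumption)
        (fun i j hij => by
          fin_cases i <;> fin_cases j <;>
            first
              | exact absurd rfl hij
              | assumption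
              | exact (polar_comm' Q _ _).trans hyp
              | exact (polar_comm' Q _ _).trans hym
              | exact (polar_comm' Q _ _).trans hpm
              | exact (polar_comm' Q _ _).trans hya
              | exact (polar_comm' Q _ _).trans hpa
              | exact (polar_comm' Q _ _).trans hma)
        (by omega)
      have hyb : polar (⇑Q) y b = 0 := hbo 0
      have hpb : polar (⇑Q) (e + f) b = 0 := hbo 1
      have hmb : polar (⇑Q) (e - f) b = 0 := hbo 2
      have hab : polar (⇑Q) a b = 0 := hbo 3
      have hsplit : ∀ p, polar (⇑Q) (e + f) p = 0 → polar (⇑Q) (e - f) p = 0 →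
          polar (⇑Q) e p = 0 := by
        intro p h h'
        rw [QuadraticMap.polar_add_left] at h
        rw [QuadraticMap.polar_sub_left] at h'
        exact (mul_eq_zero.mp (show (2 : F) * polar (⇑Q) e p = 0 by
          linear_combination h + h')).resolve_left h2
      obtain ⟨s, t, hst⟩ := exists_norm_in_plane h2 ha hb hab (Q y)
      refine ⟨s • a + t • b, ?_, hst, ?_⟩
      · simp [QuadraticMap.polar_add_right, QuadraticMap.polar_smul_right, hya, hyb]
      · have : polar (⇑Q) e (s • a + t • b) = 0 := by
          simp [QuadraticMap.polar_add_right, QuadraticMap.polar_smul_right,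
            hsplit a hpa hma, hsplit b hpb hmb]
        rw [this, mul_zero]
        exact (mul_ne_zero (mul_ne_zero (by
          rw [show (4 : F) = 2 * 2 by norm_num]; exact mul_ne_zero h2 h2) hz) hy).symm
  obtain ⟨y₀, hy₀⟩ := exists_norm h2 hQ (hι ▸ hn) (c * ν)
  have hy₀n : Q y₀ ≠ 0 := hy₀ ▸ hd
  have hy₀s : IsSquare (c * ν * Q y₀) := ⟨c * ν, by rw [hy₀]⟩
  have hθy : θ (reflection hy₀n) = -1 := theta_reflection_of_square h2 hd hy₀n hy₀s
  have hRθ : R ≤ θ.ker := by
    rw [hR, Subgroup.closure_le]
    rintro g ⟨v, t, ht, hv, hg⟩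
    have hvn : Q v ≠ 0 := hv ▸ mul_ne_zero hc (pow_ne_zero 2 ht)
    rw [eq_of_matrix Q (h := reflection hvn) hg, SetLike.mem_coe, MonoidHom.mem_ker]
    refine theta_reflection_of_nonsquare h2 hd hvn ?_
    rintro ⟨r, hr⟩
    rw [hv] at hr
    exact hns ⟨r / (c * t), by field_simp; linear_combination hr⟩
  let π := QuotientGroup.mk' R
  have hfac : ∀ g, π g = if θ g = 1 then 1 else π (reflection hy₀n) := by
    intro g
    have hg : g ∈ Subgroup.closure (reflections (Q := Q)) := by
      rw [closure_reflections h2 hQ]; trivial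
    have hy2 : π (reflection hy₀n) * π (reflection hy₀n) = 1 := by
      rw [← map_mul, reflection_mul_self, map_one]
    induction hg using Subgroup.closure_induction with
    | mem x hx =>
      obtain ⟨v, hv, rfl⟩ := hx
      by_cases hs : IsSquare (c * ν * Q v)
      · rw [if_neg (by rw [hθ, theta_reflection_of_square h2 hd hv hs]; decide)]
        rw [← mul_left_inj (π (reflection hy₀n)), hy2, ← map_mul]
        exact (QuotientGroup.eq_one_iff _).mpr (hpair hv hy₀n hs hy₀s)
      · rw [if_pos (theta_reflection_of_nonsquare h2 hd hv hs)]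
        exact (QuotientGroup.eq_one_iff _).mpr (hclass hv hs)
    | one => simp
    | mul a b _ _ iha ihb =>
      rw [map_mul, map_mul, iha, ihb]
      rcases Int.units_eq_one_or (θ a) with ha | ha <;>
        rcases Int.units_eq_one_or (θ b) with hb | hb <;> simp [ha, hb, hy2]
    | inv a _ iha =>
      rw [map_inv, map_inv, iha]
      rcases Int.units_eq_one_or (θ a) with ha | ha <;> simp [ha, inv_eq_of_mul_eq_one_right hy2]
  have hle : θ.ker ≤ R := fun g hg => by
    have h := hfac g
    rw [MonoidHom.mem_ker] at hg
    rw [if_pos hg] at h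
    exact (QuotientGroup.eq_one_iff g).mp h
  rw [le_antisymm hRθ hle]
  exact index_ker_eq_two θ hθy

include h2 hQ in
/-- The reflections of one norm class generate a subgroup of index two (`n` even,
`(n, q) ≠ (4, 3)`). -/
theorem index_closure_class {n : ℕ} (hι : Fintype.card ι = n) (hn : 2 ≤ n) (heven : Even n)
    (h43 : ¬ (n = 4 ∧ Fintype.card F = 3)) {c : F} (hc : c ≠ 0) :
    (Subgroup.closure (classReflections Q c)).index = 2 :=
  index_closure_class_of h2 hQ hι hn (fun hq h3 => by
    obtain ⟨k, rfl⟩ := heven
    have : k + k ≠ 4 := fun h => h43 ⟨h, hq⟩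
    omega) hc

end Classes

end CfsgLib.OrthSpinor
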