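import Mathlib
import Cfsg.Agent.Lib.Orth.ReflClass
import Cfsg.Agent.Lib.CharTwoInv.OrthForms
import Cfsg.Agent.S0792

/-!
The spinor norm of `-1`, the index of `Ω` and the index-two subgroups of `SO` in odd characteristic.
-/

set_option autoImplicit false

namespace CfsgLib.OrthNegOne

open Cfsg CfsgLib.OrthSpinor
open QuadraticMap (polar)

variable {ι : Type} [Fintype ι] [DecidableEq ι] {F : Type*} [Field F]
variable {Q : QuadraticForm F (ι → F)}

theorem det_refl_prod (h2 : (2 : F) ≠ 0) {c : F} (hc : c ≠ 0) {κ : Type} [Fintype κ]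
    (hκ : Fintype.card κ = Fintype.card ι) [Fintype F] (b : κ → ι → F) (hb : ∀ i, Q (b i) ≠ 0)
    (horth : ∀ i j, i ≠ j → polar (⇑Q) (b i) (b j) = 0) :
    (QuadraticMap.polarBilin Q).Nondegenerate ∧ ∃ g : ↥(isometryGroup F ⇑Q),
      (((g : GL ι F)) : Matrix ι ι F) = -1 ∧ detHom g = (-1) ^ Fintype.card κ ∧
      (∀ [∀ i, Decidable (IsSquare (c * Q (b i)))], theta (Q := Q) c g =
        ∏ i, (if IsSquare (c * Q (b i)) then (-1 : ℤˣ) else 1)) := by
  classical
  have hli : LinearIndependent F b := by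
    rw [Fintype.linearIndependent_iff]
    intro a ha i
    have h := congrArg (fun z => QuadraticMap.polarBilin Q (b i) z) ha
    simp only [map_sum, map_smul, map_zero, smul_eq_mul,
      QuadraticMap.polarBilin_apply_apply] at h
    rw [Finset.sum_eq_single i (fun j _ hj => by rw [horth i j hj.symm, mul_zero]) (by simp),
      polar_self'] at h
    exact (mul_eq_zero.mp h).resolve_right (mul_ne_zero h2 (hb i))
  have hspan : Submodule.span F (Set.range b) = ⊤ :=
    hli.span_eq_top_of_card_eq_finrank' (by simpa using hκ)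
  have hbasis : ∀ i, (Module.Basis.mk hli hspan.ge) i = b i := fun i => by simp
  have hrad : ∀ x, (∀ y, polar (⇑Q) x y = 0) → x = 0 := by
    intro x hx
    have hsum := (Module.Basis.mk hli hspan.ge).sum_repr x
    simp only [hbasis] at hsum
    rw [← hsum]
    refine Finset.sum_eq_zero fun i _ => ?_
    have h := hx (b i)
    rw [← hsum, ← QuadraticMap.polarBilin_apply_apply, map_sum, LinearMap.sum_apply,
      Finset.sum_eq_single i (fun j _ hj => by simp [horth j i hj]) (by simp)] at h
    simp only [map_smul, LinearMap.smul_apply, QuadraticMap.polarBilin_apply_apply, polar_self',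
      smul_eq_mul] at h
    rw [(mul_eq_zero.mp h).resolve_right (mul_ne_zero h2 (hb i)), zero_smul]
  refine ⟨⟨fun x hx => hrad x hx, fun x hx => hrad x fun y => by
    rw [QuadraticMap.polar_comm]; exact hx y⟩, ?_⟩
  have key : ∀ s : Finset κ, ∃ g : ↥(isometryGroup F ⇑Q),
      (∀ i, act Q g (b i) = if i ∈ s then - b i else b i) ∧ detHom g = (-1) ^ s.card ∧
      theta (Q := Q) c g = ∏ i ∈ s, (if IsSquare (c * Q (b i)) then (-1 : ℤˣ) else 1) := by
    intro s
    induction s using Finset.induction_on with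
    | empty => exact ⟨1, by simp, by simp, by simp⟩
    | insert j s hj ih =>
      obtain ⟨g, hg, hd, ht⟩ := ih
      refine ⟨reflection (hb j) * g, fun i => ?_, ?_, ?_⟩
      · rw [act_mul, hg]
        rcases eq_or_ne i j with rfl | hij
        · rw [if_neg hj, act_reflection_self, if_pos (Finset.mem_insert_self i s)]
        · have h0 : act Q (reflection (hb j)) (b i) = b i :=
            act_reflection_of_ortho (hb j) (horth j i hij.symm)
          by_cases his : i ∈ s
          · rw [if_pos his, act_neg, h0, if_pos (Finset.mem_insert_of_mem his)]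
          · rw [if_neg his, h0, if_neg (by simp [hij, his])]
      · rw [map_mul, detHom_reflection, hd, Finset.card_insert_of_notMem hj, pow_succ']
      · rw [map_mul, theta_reflection h2 hc (hb j), ht, Finset.prod_insert hj]
  obtain ⟨g, hg, hd, ht⟩ := key Finset.univ
  refine ⟨g, ?_, by simpa using hd, fun {_} => by rw [ht]; congr! 2⟩
  apply Matrix.toLin'.injective
  refine (Module.Basis.mk hli hspan.ge).ext fun i => ?_
  rw [Matrix.toLin'_apply, Matrix.toLin'_apply, hbasis, Matrix.neg_mulVec, Matrix.one_mulVec]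
  simpa [act] using hg i

/-- `-1 ∈ Ω` is decided by the square classes of an orthogonal basis. -/
theorem negOne_mem_iff [Fintype F] (h2 : (2 : F) ≠ 0) (hn : 2 ≤ Fintype.card ι) {κ : Type}
    [Fintype κ] (hκ : Fintype.card κ = Fintype.card ι) (heven : Even (Fintype.card ι))
    (b : κ → ι → F) (hb : ∀ i, Q (b i) ≠ 0)
    (horth : ∀ i j, i ≠ j → polar (⇑Q) (b i) (b j) = 0) [∀ i, Decidable (IsSquare (Q (b i)))] :
    (∃ g : ↥(isometryGroup F ⇑Q), g ∈ Omega F ⇑Q ∧ (((g : GL ι F)) : Matrix ι ι F) = -1) ↔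
      (∏ i, if IsSquare (Q (b i)) then (-1 : ℤˣ) else 1) = 1 := by
  classical
  obtain ⟨hQ, g, hg, hd, ht⟩ := det_refl_prod h2 (one_ne_zero (α := F)) hκ b hb horth
  have hd' : detHom g = 1 := by rw [hd, hκ, heven.neg_one_pow]
  have hprod : theta (Q := Q) 1 g = ∏ i, if IsSquare (Q (b i)) then (-1 : ℤˣ) else 1 := by
    rw [ht]
    exact Finset.prod_congr rfl fun i _ => if_congr (by rw [one_mul]) rfl rfl
  rw [← hprod]
  constructor
  · rintro ⟨g', hmem, hg'⟩
    rw [eq_of_matrix Q (g := g) (h := g') (by rw [hg, hg'])]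
    exact ((mem_Omega_iff h2 hQ hn one_ne_zero g').mp hmem).2
  · intro h
    exact ⟨g, (mem_Omega_iff h2 hQ hn one_ne_zero g).mpr ⟨hd', h⟩, hg⟩

variable (h2 : (2 : F) ≠ 0) (hQ : (QuadraticMap.polarBilin Q).Nondegenerate)

include h2 hQ in
theorem index_Omega_odd [Fintype F] (hn : 2 ≤ Fintype.card ι) : (Omega F ⇑Q).index = 4 := by
  classical
  obtain ⟨ν, hν, hns⟩ := exists_nonsquare' (F := F) h2
  obtain ⟨x, hx⟩ := exists_norm h2 hQ hn 1
  obtain ⟨y, hy⟩ := exists_norm h2 hQ hn ν
  have hxn : Q x ≠ 0 := hx ▸ one_ne_zero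
  have hyn : Q y ≠ 0 := hy ▸ hν
  set φ := (theta (Q := Q) 1).prod (theta (Q := Q) (1 * ν)) with hφ
  have hker : φ.ker = Omega F ⇑Q := by
    ext g
    rw [MonoidHom.mem_ker, hφ, MonoidHom.prod_apply, Prod.mk_eq_one,
      mem_Omega_iff h2 hQ hn one_ne_zero g, det_eq_one_iff h2 hQ one_ne_zero hν hns g]
    constructor
    · rintro ⟨ha, hb⟩; simp only [ha, hb, mul_one, and_self]
    · rintro ⟨hab, ha⟩
      exact ⟨ha, by rwa [ha, one_mul] at hab⟩
  have hx' : φ (reflection hxn) = (-1, 1) := by
    rw [hφ, MonoidHom.prod_apply, theta_reflection_of_square h2 one_ne_zero hxn (by simp [hx]),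
      theta_reflection_of_nonsquare h2 (by simpa using hν) hxn (by simpa [hx] using hns)]
  have hy' : φ (reflection hyn) = (1, -1) := by
    rw [hφ, MonoidHom.prod_apply, theta_reflection_of_square h2 (c := 1 * ν) (by simpa using hν) hyn
      ⟨ν, by rw [hy, one_mul]⟩,
      theta_reflection_of_nonsquare h2 one_ne_zero hyn (by simpa [hy] using hns)]
  have hs : Function.Surjective φ := by
    rintro ⟨a, b⟩
    rcases Int.units_eq_one_or a with rfl | rfl <;> rcases Int.units_eq_one_or b with rfl | rfl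
    · exact ⟨1, map_one φ⟩
    · exact ⟨_, hy'⟩
    · exact ⟨_, hx'⟩
    · exact ⟨reflection hxn * reflection hyn, by rw [map_mul, hx', hy']; rfl⟩
  rw [← hker, Subgroup.index_ker, MonoidHom.range_eq_top.mpr hs, Subgroup.card_top]
  simp

theorem unique_index_two_SO [Fintype F] (h2 : (2 : F) ≠ 0) {n : ℕ} (hn : 2 ≤ n)
    (Q : QuadraticForm F (Fin n → F)) (hQ : (QuadraticMap.polarBilin Q).Nondegenerate) :
    ∃! H : Subgroup ↥(specialIsometryGroup F ⇑Q), H.index = 2 := by
  classical
  have hn' : 2 ≤ Fintype.card (Fin n) := by simpa using hn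
  obtain ⟨ν, hν, hns⟩ := exists_nonsquare' (F := F) h2
  obtain ⟨x, hx⟩ := exists_norm h2 hQ hn' 1
  obtain ⟨y, hy⟩ := exists_norm h2 hQ hn' ν
  have hxn : Q x ≠ 0 := hx ▸ one_ne_zero
  have hyn : Q y ≠ 0 := hy ▸ hν
  haveI : (specialIsometryGroup F ⇑Q).Normal := MonoidHom.normal_ker _
  have hSO : ∀ g : ↥(isometryGroup F ⇑Q), g ∈ specialIsometryGroup F ⇑Q ↔ detHom g = 1 :=
    fun g => Iff.rfl
  have hpair : ∀ {u v : Fin n → F} (hu : Q u ≠ 0) (hv : Q v ≠ 0),
      reflection hu * reflection hv ∈ specialIsometryGroup F ⇑Q := fun hu hv => by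
    rw [hSO, map_mul, detHom_reflection, detHom_reflection, neg_mul_neg, one_mul]
  set A := (theta (Q := Q) 1).comp (specialIsometryGroup F ⇑Q).subtype with hA
  have hA1 : A ⟨_, hpair hxn hyn⟩ = -1 := by
    simp only [hA, MonoidHom.comp_apply, Subgroup.coe_subtype, map_mul]
    rw [theta_reflection_of_square h2 one_ne_zero hxn (by simp [hx]),
      theta_reflection_of_nonsquare h2 one_ne_zero hyn (by simpa [hy] using hns), mul_one]
  refine ⟨A.ker, index_ker_eq_two A hA1, fun H hH => ?_⟩
  let χ : ↥(specialIsometryGroup F ⇑Q) →* ℤˣ := MonoidHom.mk' (fun g => if g ∈ H then 1 else -1)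
    (by
      intro g k
      have := Subgroup.mul_mem_iff_of_index_two hH (a := g) (b := k)
      by_cases hg : g ∈ H <;> by_cases hk : k ∈ H <;> simp_all)
  have hker : χ.ker = H := by
    ext g
    rw [MonoidHom.mem_ker]
    by_cases hg : g ∈ H <;> simp [χ, hg]
  -- the image of `H` in the whole isometry group
  set Φ : Subgroup ↥(isometryGroup F ⇑Q) := H.map (specialIsometryGroup F ⇑Q).subtype with hΦ
  -- conjugation by a reflection does not change `χ`
  have hconj : ∀ {w : Fin n → F} (hw : Q w ≠ 0) (g : ↥(isometryGroup F ⇑Q))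
      (hg : g ∈ specialIsometryGroup F ⇑Q),
      χ ⟨reflection hw * g * (reflection hw)⁻¹, Subgroup.Normal.conj_mem inferInstance _ hg _⟩ =
        χ ⟨g, hg⟩ := by
    intro w hw g hg
    have hgen := Cfsg.Agent.S0792.result h2 Q hQ
    have hg' := hgen.le hg
    induction hg' using Subgroup.closure_induction with
    | one => congr 1; apply Subtype.ext; simp
    | mul a b ha hb iha ihb =>
      have ha' := hgen.ge ha
      have hb' := hgen.ge hb
      rw [show (⟨a * b, hg⟩ : ↥(specialIsometryGroup F ⇑Q)) = ⟨a, ha'⟩ * ⟨b, hb'⟩ from rfl,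
        map_mul, ← iha ha', ← ihb hb', ← map_mul]
      congr 1; apply Subtype.ext; simp [mul_assoc]
    | inv a ha iha =>
      have ha' := hgen.ge ha
      rw [show (⟨a⁻¹, hg⟩ : ↥(specialIsometryGroup F ⇑Q)) = ⟨a, ha'⟩⁻¹ from rfl,
        map_inv, ← iha ha', ← map_inv]
      congr 1; apply Subtype.ext; simp [mul_assoc]
    | mem z hz =>
      obtain ⟨u, v, hu, hv, hz⟩ := hz
      have hzeq : z = reflection hu * reflection hv := eq_of_matrix Q hz
      subst hzeq
      have h1 : (⟨_, hg⟩ : ↥(specialIsometryGroup F ⇑Q)) =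
          ⟨_, hpair hu hw⟩ * ⟨_, hpair hw hv⟩ := Subtype.ext (by
        show reflection hu * reflection hv =
          reflection hu * reflection hw * (reflection hw * reflection hv)
        rw [mul_assoc, ← mul_assoc (reflection hw), reflection_mul_self, one_mul])
      have h2' : (⟨reflection hw * (reflection hu * reflection hv) * (reflection hw)⁻¹,
          Subgroup.Normal.conj_mem inferInstance _ hg _⟩ : ↥(specialIsometryGroup F ⇑Q)) =
          ⟨_, hpair hu hw⟩⁻¹ * ⟨_, hpair hw hv⟩⁻¹ := Subtype.ext (by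
        show _ = (reflection hu * reflection hw)⁻¹ * (reflection hw * reflection hv)⁻¹
        simp only [mul_inv_rev, reflection_inv, mul_assoc])
      rw [h1, h2', map_mul, map_mul, map_inv, map_inv, Int.units_inv_eq_self, Int.units_inv_eq_self]
  have hΦn : Φ.Normal := ⟨fun p hp g => by
    have hg := (closure_reflections h2 hQ).ge (Subgroup.mem_top g)
    induction hg using Subgroup.closure_induction_left generalizing p with
    | one => simpa using hp
    | mul_left a ha b _ ih =>
      obtain ⟨w, hw, rfl⟩ := ha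
      obtain ⟨q, hq, hq'⟩ := ih p hp
      refine ⟨⟨reflection hw * q * (reflection hw)⁻¹, Subgroup.Normal.conj_mem inferInstance _ q.2 _⟩,
        ?_, ?_⟩
      · rw [← hker, SetLike.mem_coe, MonoidHom.mem_ker, hconj hw q.1 q.2, ← MonoidHom.mem_ker, hker]
        exact hq
      · simp only [Subgroup.coe_subtype] at hq' ⊢
        rw [hq']; group
    | inv_mul_cancel a ha b _ ih =>
      obtain ⟨w, hw, rfl⟩ := ha
      rw [reflection_inv]
      obtain ⟨q, hq, hq'⟩ := ih p hp
      refine ⟨⟨reflection hw * q * (reflection hw)⁻¹, Subgroup.Normal.conj_mem inferInstance _ q.2 _⟩,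
        ?_, ?_⟩
      · rw [← hker, SetLike.mem_coe, MonoidHom.mem_ker, hconj hw q.1 q.2, ← MonoidHom.mem_ker, hker]
        exact hq
      · simp only [Subgroup.coe_subtype] at hq' ⊢
        rw [hq']; group⟩
  -- modulo `Φ` the group is commutative: it is generated by commuting images of reflections
  have hcomm : Omega F ⇑Q ≤ Φ := by
    rw [Omega, commutator_def, Subgroup.commutator_le]
    intro a _ b _
    have hab : ∀ {u v : Fin n → F} (hu : Q u ≠ 0) (hv : Q v ≠ 0),
        (QuotientGroup.mk' Φ) (reflection hu) * (QuotientGroup.mk' Φ) (reflection hv) =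
          (QuotientGroup.mk' Φ) (reflection hv) * (QuotientGroup.mk' Φ) (reflection hu) := by
      intro u v hu hv
      rw [← map_mul, ← map_mul, QuotientGroup.mk'_apply, QuotientGroup.mk'_apply, QuotientGroup.eq]
      refine ⟨⟨_, hpair hu hv⟩⁻¹ * ⟨_, hpair hu hv⟩⁻¹, ?_, ?_⟩
      · rw [← hker, SetLike.mem_coe, MonoidHom.mem_ker, map_mul, Int.units_mul_self]
      · simp [reflection_inv, mul_assoc]
    have hall : ∀ a b : ↥(isometryGroup F ⇑Q),
        QuotientGroup.mk' Φ a * QuotientGroup.mk' Φ b = QuotientGroup.mk' Φ b * QuotientGroup.mk' Φ a := by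
      have htop : ∀ g : ↥(isometryGroup F ⇑Q), QuotientGroup.mk' Φ g ∈
          Subgroup.closure ((QuotientGroup.mk' Φ) '' reflections (Q := Q)) := fun g => by
        rw [← MonoidHom.map_closure, closure_reflections h2 hQ]
        exact Subgroup.mem_map_of_mem _ (Subgroup.mem_top g)
      haveI := Subgroup.isMulCommutative_closure (k := (QuotientGroup.mk' Φ) '' reflections (Q := Q))
        (by rintro _ ⟨_, ⟨u, hu, rfl⟩, rfl⟩ _ ⟨_, ⟨v, hv, rfl⟩, rfl⟩; exact hab hu hv)
      intro a b
      exact congrArg Subtype.val (mul_comm' (⟨_, htop a⟩ :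
        Subgroup.closure ((QuotientGroup.mk' Φ) '' reflections (Q := Q))) ⟨_, htop b⟩)
    rw [← QuotientGroup.eq_one_iff, ← QuotientGroup.mk'_apply, commutatorElement_def, map_mul,
      map_mul, map_mul, map_inv, map_inv, hall a b]
    group
  have hle : A.ker ≤ H := fun g hg => by
    obtain ⟨q, hq, hq'⟩ := hcomm ((mem_Omega_iff h2 hQ hn' one_ne_zero g.1).mpr ⟨g.2, hg⟩)
    rwa [← Subtype.ext hq']
  have h1 := index_ker_eq_two A hA1
  have h3 := Subgroup.relIndex_mul_index hle
  rw [hH, h1] at h3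
  exact le_antisymm (Subgroup.relIndex_eq_one.mp (by omega)) hle

end CfsgLib.OrthNegOne
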